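import Mathlib
import Cfsg.Agent.BpLieP.Base
import Cfsg.Agent.Lib.ThompsonPQ
import Cfsg.Agent.S0058

/-!
# S1332, characteristic `p`: automorphisms of order `p` with many fixed points

`G` a group all of whose `p`-local subgroups have characteristic `p`, `x` an automorphism of `G` of order `p`:

* `core_fixed_eq_bot` : `O_{p'}(C_G(x)) = 1` if `C_G(x)` contains a noncyclic abelian `p`-subgroup;
* `exists_noncyclic` : this is so if `x` normalises an elementary abelian `p`-subgroup of order `> p ^ p`;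
* `good_of_big` : the conclusion `Good p (C_G(x))`.
-/

set_option autoImplicit false
set_option linter.unusedSectionVars false

namespace Cfsg.Agent.BpLieP.Big

open Subgroup Cfsg Cfsg.Agent.BpTab Cfsg.Agent.Lib
open scoped commutatorElement

universe u

section Core

variable {G : Type u} [Group G] [Finite G] {p : ℕ} [hp : Fact p.Prime]

/-- the `p`-local subgroups have characteristic `p` -/
def LocChar (p : ℕ) (G : Type*) [Group G] : Prop :=
  ∀ K : Subgroup G, IsPGroup p ↥K → K ≠ ⊥ →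
    centralizer (pCore p ↥(normalizer (K : Set G)) : Set ↥(normalizer (K : Set G))) ≤
      pCore p ↥(normalizer (K : Set G))

theorem conj_mul_eq (x : MulAut G) (y : G) : x * MulAut.conj y * x⁻¹ = MulAut.conj (x y) := by
  ext z
  simp only [MulAut.mul_apply, MulAut.conj_apply, map_mul, map_inv, MulAut.apply_inv_self]

theorem conj_injective (hZ : center G = ⊥) : Function.Injective (MulAut.conj : G →* MulAut G) := by
  rw [injective_iff_map_eq_one]
  intro y hy
  have h1 : y ∈ center G := by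
    rw [mem_center_iff]
    intro z
    have h2 : y * z * y⁻¹ = z := DFunLike.congr_fun hy z
    rw [mul_inv_eq_iff_eq_mul] at h2
    exact h2.symm
  rwa [hZ, mem_bot] at h1

/-- The fixed points of a `p'`-subgroup normalised by the fixed points of `x` on a `p`-subgroup fixed by `x`. -/
theorem inf_centralizer_eq_bot (hZ : center G = ⊥) (hloc : LocChar p G) {x : MulAut G} (hx : x ^ p = 1)
    {A : Subgroup G} (hA : A ≤ fixedSubgroup x) (hAn : ∀ c ∈ fixedSubgroup x, ∀ a ∈ A, c * a * c⁻¹ ∈ A)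
    (hAc : (Nat.card ↥A).Coprime p) {Z : Subgroup G} (hZx : Z ≤ fixedSubgroup x) (hZp : IsPGroup p ↥Z) (hZ1 : Z ≠ ⊥) :
    A ⊓ centralizer (Z : Set G) = ⊥ := by
  obtain ⟨N, hN⟩ : ∃ N : Subgroup G, N = normalizer (Z : Set G) := ⟨_, rfl⟩
  have hchar := hloc Z hZp hZ1
  rw [← hN] at hchar
  obtain ⟨O, hO⟩ : ∃ O : Subgroup G, O = (pCore p ↥N).map N.subtype := ⟨_, rfl⟩
  have hOn : (pCore p ↥N).Normal := Cores.pCore_normal p
  have hOp : IsPGroup p ↥O := by
    rw [hO]
    exact (Cores.pCore_isPGroup p).map _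
  obtain ⟨B, hB⟩ : ∃ B : Subgroup G, B = A ⊓ centralizer (Z : Set G) := ⟨_, rfl⟩
  have hBN : B ≤ N := by
    rw [hB, hN]
    exact inf_le_right.trans (centralizer_le_normalizer _)
  have hBA : B ≤ A := by rw [hB]; exact inf_le_left
  -- `x` fixes `N` and `O`
  have hxZ : Z.map x.toMonoidHom = Z := by
    ext y
    constructor
    · rintro ⟨z, hz, rfl⟩
      have : x z = z := hZx hz
      show x z ∈ Z
      rwa [this]
    · intro hy
      exact ⟨y, hy, hZx hy⟩
  have hxN : N.map x.toMonoidHom = N := by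
    have h1 := Subgroup.map_normalizer_eq_of_bijective Z (f := x.toMonoidHom) x.bijective
    rw [hN]
    refine Eq.trans h1 ?_
    rw [hxZ]
  have hxO : O.map x.toMonoidHom = O := by
    let e : ↥N ≃* ↥N := (x.subgroupMap N).trans (MulEquiv.subgroupCongr hxN)
    have h1 : (pCore p ↥N).map e.toMonoidHom = pCore p ↥N := Cores.map_equiv_pCore e p
    rw [hO, Subgroup.map_map]
    have h2 : x.toMonoidHom.comp N.subtype = N.subtype.comp e.toMonoidHom := by
      ext y
      rfl
    rw [h2, ← Subgroup.map_map, h1]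
  -- in the automorphism group
  have hinj := conj_injective hZ
  have hPQ : zpowers x ≤ centralizer ((B.map (MulAut.conj : G →* MulAut G) : Subgroup (MulAut G)) : Set (MulAut G)) := by
    rw [zpowers_le, mem_centralizer_iff]
    rintro _ ⟨b, hb, rfl⟩
    have h1 := conj_mul_eq x b
    have h2 : x b = b := hA (hBA hb)
    rw [h2, mul_inv_eq_iff_eq_mul] at h1
    exact h1.symm
  have hPU : zpowers x ≤ normalizer ((O.map (MulAut.conj : G →* MulAut G) : Subgroup (MulAut G)) : Set (MulAut G)) := by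
    rw [zpowers_le, mem_normalizer_iff]
    intro α
    constructor
    · rintro ⟨o, ho, rfl⟩
      rw [conj_mul_eq]
      refine ⟨x o, ?_, rfl⟩
      rw [SetLike.mem_coe, ← hxO]
      exact ⟨o, ho, rfl⟩
    · rintro ⟨o, ho, e⟩
      rw [SetLike.mem_coe, ← hxO] at ho
      obtain ⟨o', ho', rfl⟩ := ho
      refine ⟨o', ho', ?_⟩
      have h1 := conj_mul_eq x o'
      have h2 : x * MulAut.conj o' * x⁻¹ = x * α * x⁻¹ := h1.trans e
      exact mul_left_cancel (mul_right_cancel h2)
  have hQU : B.map (MulAut.conj : G →* MulAut G) ≤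
      normalizer ((O.map (MulAut.conj : G →* MulAut G) : Subgroup (MulAut G)) : Set (MulAut G)) := by
    have h1 : B ≤ normalizer (O : Set G) := by
      intro b hb
      rw [mem_normalizer_iff]
      intro o
      constructor
      · intro ho
        rw [hO] at ho ⊢
        obtain ⟨o', ho', rfl⟩ := ho
        exact ⟨⟨b, hBN hb⟩ * o' * ⟨b, hBN hb⟩⁻¹, hOn.conj_mem _ ho' _, rfl⟩
      · intro ho
        rw [hO] at ho ⊢
        obtain ⟨o', ho', e⟩ := ho
        refine ⟨⟨b, hBN hb⟩⁻¹ * o' * ⟨b, hBN hb⟩, ?_, ?_⟩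
        · have := hOn.conj_mem _ ho' (⟨b, hBN hb⟩ : ↥N)⁻¹
          rwa [inv_inv] at this
        · show b⁻¹ * (o' : G) * b = o
          have e' : (o' : G) = b * o * b⁻¹ := e
          rw [e']
          group
    exact (map_mono h1).trans (le_normalizer_map _)
  have hC : (O.map (MulAut.conj : G →* MulAut G)) ⊓ centralizer (zpowers x : Set (MulAut G)) ≤
      centralizer ((B.map (MulAut.conj : G →* MulAut G) : Subgroup (MulAut G)) : Set (MulAut G)) := by
    rintro _ ⟨⟨o, ho, rfl⟩, hc⟩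
    rw [mem_centralizer_iff]
    rintro _ ⟨b, hb, rfl⟩
    -- `o` is fixed by `x`
    have h1 : x o = o := by
      apply hinj
      rw [← conj_mul_eq, (mem_centralizer_iff.1 hc) x (mem_zpowers x), mul_inv_cancel_right]
    -- `[b, o] = 1`
    have h2 : ⁅b, o⁆ ∈ A := by
      have h3 : o * b⁻¹ * o⁻¹ ∈ A := hAn o h1 _ (inv_mem (hBA hb))
      have h4 : ⁅b, o⁆ = b * (o * b⁻¹ * o⁻¹) := by rw [commutatorElement_def]; group
      rw [h4]
      exact mul_mem (hBA hb) h3
    have h3 : ⁅b, o⁆ ∈ O := by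
      have h4 : b * o * b⁻¹ ∈ O := by
        rw [hO] at ho ⊢
        obtain ⟨o', ho', rfl⟩ := ho
        exact ⟨⟨b, hBN hb⟩ * o' * ⟨b, hBN hb⟩⁻¹, hOn.conj_mem _ ho' _, rfl⟩
      rw [commutatorElement_def]
      exact mul_mem h4 (inv_mem ho)
    have h4 : ⁅b, o⁆ = 1 := by
      obtain ⟨k, hk⟩ := IsPGroup.iff_card.1 hOp
      have h5 := orderOf_dvd_natCard (⟨⁅b, o⁆, h2⟩ : ↥A)
      have h6 := orderOf_dvd_natCard (⟨⁅b, o⁆, h3⟩ : ↥O)
      rw [Subgroup.orderOf_mk] at h5 h6
      rw [hk] at h6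
      exact orderOf_eq_one_iff.1 (Nat.eq_one_of_dvd_coprimes (Nat.Coprime.pow_right k hAc) h5 h6)
    rw [commutatorElement_eq_one_iff_mul_comm] at h4
    rw [← map_mul, h4, map_mul]
  have key := ThompsonPQ.thompson_p_times_q p (zpowers x) (B.map (MulAut.conj : G →* MulAut G))
    (O.map (MulAut.conj : G →* MulAut G)) (by
      rw [IsPGroup.iff_card]
      rcases (Nat.dvd_prime hp.out).1 (orderOf_dvd_of_pow_eq_one hx) with h1 | h1
      · exact ⟨0, by rw [Nat.card_zpowers, h1, pow_zero]⟩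
      · exact ⟨1, by rw [Nat.card_zpowers, h1, pow_one]⟩) (by
      rw [Nat.card_congr (B.equivMapOfInjective _ hinj).symm.toEquiv]
      exact hAc.coprime_dvd_left (card_dvd_of_le hBA)) (hOp.map _) hPQ hPU hQU hC
  -- `B` centralises `O`
  have h1 : B ≤ O := by
    intro b hb
    have h2 : (⟨b, hBN hb⟩ : ↥N) ∈ centralizer (pCore p ↥N : Set ↥N) := by
      rw [mem_centralizer_iff]
      intro o ho
      apply Subtype.ext
      show (o : G) * b = b * (o : G)
      apply hinj
      rw [map_mul, map_mul]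
      exact (mem_centralizer_iff.1 (key ⟨b, hb, rfl⟩)) _ ⟨(o : G), by rw [hO]; exact ⟨o, ho, rfl⟩, rfl⟩
    rw [hO]
    exact ⟨⟨b, hBN hb⟩, hchar h2, rfl⟩
  rw [← hB, ← card_eq_one]
  obtain ⟨k, hk⟩ := IsPGroup.iff_card.1 hOp
  exact Nat.eq_one_of_dvd_coprimes (Nat.Coprime.pow_right k hAc) (card_dvd_of_le hBA)
    (by rw [← hk]; exact card_dvd_of_le h1)

/-- **The core of the fixed points.** -/
theorem core_fixed_eq_bot (hZ : center G = ⊥) (hloc : LocChar p G) {x : MulAut G} (hx : x ^ p = 1)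
    {E : Subgroup G} (hE : E ≤ fixedSubgroup x) (hEp : IsPGroup p ↥E) [IsMulCommutative ↥E] (hEc : ¬ IsCyclic ↥E) :
    pPrimeCore p ↥(fixedSubgroup x) = ⊥ := by
  obtain ⟨A, hA⟩ : ∃ A : Subgroup G, A = (pPrimeCore p ↥(fixedSubgroup x)).map (fixedSubgroup x).subtype := ⟨_, rfl⟩
  have hn : (pPrimeCore p ↥(fixedSubgroup x)).Normal := Cores.pPrimeCore_normal p
  have hAx : A ≤ fixedSubgroup x := by
    rw [hA]
    exact map_subtype_le _
  have hAn : ∀ c ∈ fixedSubgroup x, ∀ a ∈ A, c * a * c⁻¹ ∈ A := by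
    intro c hc a ha
    rw [hA] at ha ⊢
    obtain ⟨a', ha', rfl⟩ := ha
    exact ⟨⟨c, hc⟩ * a' * ⟨c, hc⟩⁻¹, hn.conj_mem _ ha' _, rfl⟩
  have hAc : (Nat.card ↥A).Coprime p := by
    rw [hA, Nat.card_congr ((pPrimeCore p ↥(fixedSubgroup x)).equivMapOfInjective _ (subtype_injective _)).symm.toEquiv]
    exact Cores.pPrimeCore_coprime p
  have hEA : E ≤ normalizer (A : Set G) := by
    intro e he
    rw [mem_normalizer_iff]
    intro a
    constructor
    · exact hAn e (hE he) a
    · intro ha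
      have h1 := hAn e⁻¹ (inv_mem (hE he)) _ ha
      have h2 : e⁻¹ * (e * a * e⁻¹) * e⁻¹⁻¹ = a := by group
      rwa [h2] at h1
  obtain ⟨k, hk⟩ := IsPGroup.iff_card.1 hEp
  have h1 := Cfsg.Agent.S0058.result E A hEc hEA (by rw [hk]; exact (Nat.Coprime.pow_right k hAc).symm)
  have h2 : A = ⊥ := by
    rw [← h1, eq_bot_iff]
    refine iSup₂_le fun a ha => ?_
    have h3 : A ⊓ centralizer (zpowers a : Set G) = ⊥ := by
      refine inf_centralizer_eq_bot hZ hloc hx hAx hAn hAc ?_ ?_ ?_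
      · rw [zpowers_le]
        exact hE ha.1
      · exact hEp.to_le (by rw [zpowers_le]; exact ha.1)
      · rw [Ne, zpowers_eq_bot]
        exact ha.2
    rw [← h3]
    refine inf_le_inf le_rfl ?_
    rw [le_centralizer_iff, zpowers_le]
    intro y hy
    exact (mem_centralizer_singleton_iff.1 hy)
  rw [hA, Subgroup.map_eq_bot_iff_of_injective _ (subtype_injective _)] at h2
  exact h2

end Core

/-! ### fixed points on elementary abelian groups -/

section Additive

theorem card_ker_comp_le {V : Type*} [AddCommGroup V] [Finite V] (f g : V →+ V) :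
    Nat.card ↥(f.comp g).ker ≤ Nat.card ↥g.ker * Nat.card ↥f.ker := by
  let g' : ↥(f.comp g).ker →+ ↥f.ker := (g.comp (f.comp g).ker.subtype).codRestrict f.ker (fun v => v.2)
  have h1 := AddSubgroup.card_mul_index g'.ker
  rw [AddSubgroup.index_ker] at h1
  rw [← h1]
  refine Nat.mul_le_mul ?_ (AddSubgroup.card_le_card_addGroup _)
  refine Nat.card_le_card_of_injective (fun v : ↥g'.ker => (⟨(v : ↥(f.comp g).ker), ?_⟩ : ↥g.ker)) ?_
  · exact congrArg Subtype.val v.2
  · intro a b h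
    have h' : (((a : ↥(f.comp g).ker)) : V) = ((b : ↥(f.comp g).ker) : V) :=
      congrArg (fun z : ↥g.ker => (z : V)) h
    exact Subtype.ext (Subtype.ext h')

theorem card_ker_pow_le {V : Type*} [AddCommGroup V] [Finite V] (f : AddMonoid.End V) (k : ℕ) :
    Nat.card ↥(f ^ k).ker ≤ Nat.card ↥f.ker ^ k := by
  induction k with
  | zero =>
    rw [pow_zero, pow_zero]
    have h1 : (AddMonoidHom.id V).ker = ⊥ := (AddMonoidHom.ker_eq_bot_iff _).2 fun a b h => h
    exact (congrArg (fun H : AddSubgroup V => Nat.card ↥H) h1).le.trans AddSubgroup.card_bot.le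
  | succ k ih =>
    rw [pow_succ', pow_succ]
    exact (card_ker_comp_le f (f ^ k)).trans (Nat.mul_le_mul ih le_rfl)

theorem card_le {V : Type*} [AddCommGroup V] [Finite V] {p : ℕ} (hp : p.Prime) (hV : ∀ v : V, p • v = 0)
    (x : AddMonoid.End V) (hx : x ^ p = 1) : Nat.card V ≤ Nat.card ↥(x - 1).ker ^ p := by
  have hp0 : (p : AddMonoid.End V) = 0 := by
    ext v
    rw [AddMonoid.End.natCast_apply, hV]
    rfl
  have h1 : (x - 1) ^ p = 0 := by
    have hc : Commute (x - 1) 1 := Commute.one_right _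
    obtain ⟨r, hr⟩ := hc.exists_add_pow_prime_eq hp
    rw [sub_add_cancel, hx, one_pow, hp0, zero_mul, zero_mul, zero_mul, add_zero] at hr
    have h2 : (x - 1) ^ p + 1 = 0 + 1 := by rw [← hr, zero_add]
    exact add_right_cancel h2
  refine le_trans ?_ (card_ker_pow_le (x - 1) p)
  rw [h1]
  have : (0 : AddMonoid.End V).ker = ⊤ := AddMonoidHom.ker_zero
  rw [this, AddSubgroup.card_top]

end Additive

section Big

variable {G : Type u} [Group G] [Finite G] {p : ℕ} [hp : Fact p.Prime]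

/-- **Many fixed points.** -/
theorem exists_noncyclic {x : MulAut G} (hx : x ^ p = 1) (V : Subgroup G) (hVx : ∀ v ∈ V, x v ∈ V)
    (hVc : ∀ a ∈ V, ∀ b ∈ V, a * b = b * a) (hVp : ∀ a ∈ V, a ^ p = 1) (hcard : p ^ p < Nat.card ↥V) :
    ¬ IsCyclic ↥(V ⊓ fixedSubgroup x) := by
  let iV : CommGroup ↥V := { (inferInstance : Group ↥V) with mul_comm := fun a b => Subtype.ext (hVc _ a.2 _ b.2) }
  let f : ↥V →* ↥V := (x.toMonoidHom.comp V.subtype).codRestrict V fun v => hVx v v.2
  let X : AddMonoid.End (Additive ↥V) := MonoidHom.toAdditive f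
  have hXk : ∀ (k : ℕ) (v : ↥V), (((X ^ k) (Additive.ofMul v)).toMul : G) = (x ^ k) (v : G) := by
    intro k
    induction k with
    | zero => intro v; rfl
    | succ k ih =>
      intro v
      rw [pow_succ, pow_succ]
      exact ih (f v)
  have hX : X ^ p = 1 := by
    ext v
    have h1 := hXk p v.toMul
    rw [hx] at h1
    exact h1
  have h1 := card_le hp.out (V := Additive ↥V) (fun v => by
    have h2 : (v.toMul : ↥V) ^ p = 1 := Subtype.ext (hVp _ v.toMul.2)
    exact congrArg Additive.ofMul h2) X hX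
  have h2 : Nat.card (Additive ↥V) = Nat.card ↥V := Nat.card_congr Additive.toMul
  rw [h2] at h1
  intro hcyc
  -- the fixed points have order at most `p`
  have h3 : Nat.card ↥(V ⊓ fixedSubgroup x) ≤ p := by
    obtain ⟨g, hg⟩ := hcyc.exists_generator
    have h4 : Nat.card ↥(V ⊓ fixedSubgroup x) = orderOf g := (orderOf_eq_card_of_forall_mem_zpowers hg).symm
    rw [h4]
    refine Nat.le_of_dvd hp.out.pos (orderOf_dvd_of_pow_eq_one ?_)
    exact Subtype.ext (hVp _ g.2.1)
  have h4 : Nat.card ↥(X - 1).ker ≤ Nat.card ↥(V ⊓ fixedSubgroup x) := by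
    refine Nat.card_le_card_of_injective (fun v : ↥(X - 1).ker => (⟨((v : Additive ↥V).toMul : G), ?_, ?_⟩ :
      ↥(V ⊓ fixedSubgroup x))) ?_
    · exact (v : Additive ↥V).toMul.2
    · have h5 : X (v : Additive ↥V) - (v : Additive ↥V) = 0 := v.2
      rw [sub_eq_zero] at h5
      exact congrArg (fun z : Additive ↥V => (z.toMul : G)) h5
    · intro a b h
      have h' : (((a : Additive ↥V)).toMul : G) = ((b : Additive ↥V).toMul : G) :=
        congrArg (fun z : ↥(V ⊓ fixedSubgroup x) => (z : G)) h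
      exact Subtype.ext (Subtype.ext h')
  have h5 : Nat.card ↥V ≤ p ^ p := h1.trans (Nat.pow_le_pow_left (h4.trans h3) p)
  exact absurd hcard (not_lt.2 h5)

/-- **Automorphisms of order `p` normalising a large elementary abelian `p`-subgroup.** -/
theorem core_of_big (hZ : center G = ⊥) (hloc : LocChar p G) {x : MulAut G} (hx : x ^ p = 1) (V : Subgroup G)
    (hVx : ∀ v ∈ V, x v ∈ V) (hVc : ∀ a ∈ V, ∀ b ∈ V, a * b = b * a) (hVp : ∀ a ∈ V, a ^ p = 1)
    (hcard : p ^ p < Nat.card ↥V) : pPrimeCore p ↥(fixedSubgroup x) = ⊥ := by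
  have h1 : IsMulCommutative ↥(V ⊓ fixedSubgroup x) := ⟨⟨fun a b => Subtype.ext (hVc _ a.2.1 _ b.2.1)⟩⟩
  refine core_fixed_eq_bot hZ hloc hx (E := V ⊓ fixedSubgroup x) inf_le_right ?_
    (exists_noncyclic hx V hVx hVc hVp hcard)
  intro a
  refine ⟨1, Subtype.ext ?_⟩
  rw [pow_one]
  exact hVp _ a.2.1

theorem good_of_big [IsSimpleGroup G] (hG : KFacts.RgdFilt.HasFilt p G) (hc : ∃ a b : G, a * b ≠ b * a)
    {x : MulAut G} (hx : x ^ p = 1) (V : Subgroup G) (hVx : ∀ v ∈ V, x v ∈ V)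
    (hVc : ∀ a ∈ V, ∀ b ∈ V, a * b = b * a) (hVp : ∀ a ∈ V, a ^ p = 1) (hcard : p ^ p < Nat.card ↥V) :
    Good p ↥(fixedSubgroup x) :=
  good_of_core (core_of_big (KFacts.RgdLieCharP.center_eq_bot hc) (fun _ hK hK1 => hG.local_char hc hK hK1) hx V hVx
    hVc hVp hcard)

end Big

end Cfsg.Agent.BpLieP.Big
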