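import Mathlib
import Cfsg.Agent.BpLieP.Base
import Cfsg.Agent.CpAutU.Row
import Cfsg.Agent.CpAut.OrthRow
import Cfsg.Agent.BpLieP.Big
import Cfsg.Agent.Nodes.CardSup
import Cfsg.Agent.KFacts.RgdFilt
import Cfsg.Agent.CpAut.RgdConj
import Cfsg.Agent.CpAut.RgdTwAll
import Cfsg.Agent.BpLieP.Untw
import Cfsg.Agent.KFacts.RgdFiltTwAll

-- merged: Cfsg.Agent.BpLieP.Psl
section

/-!
# S1332: `PSL_n(q)`, `PSp_2m(q)` in characteristic `p` odd
-/

set_option autoImplicit false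
set_option linter.unusedSectionVars false

namespace Cfsg.Agent.BpLieP.Psl

open Matrix Cfsg
open Cfsg.Agent.CpAut.Fix
open Cfsg.Agent.BpTab Cfsg.Agent.BpLieP.Base

section Psl

open Cfsg.Agent.ClassicalGeometry.AutPSL.Auto Cfsg.Agent.CpAut.Psl Cfsg.Agent.CpAut.PslRow

/-- **`PSL_n(q)`** -/
theorem bpS_psl {F : Type} [Field F] [Fintype F] {p : ℕ} (hp : p.Prime) (hp2 : p ≠ 2) [CharP F p] {n : ℕ} (hn : 2 ≤ n)
    (h4 : n = 2 → 4 ≤ Fintype.card F) : BpS p (Matrix.ProjectiveSpecialLinearGroup (Fin n) F) := by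
  have : Fact p.Prime := ⟨hp⟩
  have hsimple := isSimple (E := F) hn h4
  have hfilt : KFacts.RgdFilt.HasFilt p (Matrix.ProjectiveSpecialLinearGroup (Fin n) F) :=
    KFacts.RgdLieCharP.hasFilt_of_lie (Or.inl ⟨F, inferInstance, inferInstance, inferInstance, n, hn, h4,
      ⟨MulEquiv.refl _⟩⟩)
  refine bpS_of_filt hfilt not_comm_quot ?_
  intro x hx hno
  have hx' : x ^ p = 1 := by rw [← hx]; exact pow_orderOf_eq_one x
  obtain ⟨A, σ, rfl⟩ := exists_of_odd hn (hp.odd_of_ne_two hp2) hx'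
  have hσ : σ ≠ 1 := by
    rintro rfl
    apply hno
    rw [map_one, mul_one] at hx' ⊢
    exact inner_of_lin hn hx'
  have hchar : CharP ↥(fixf σ) p := charP_fixf σ
  have hfin : Fintype ↥(fixf σ) := Fintype.ofFinite _
  have hcard : 3 ≤ Fintype.card ↥(fixf σ) := CpAut.PspRow.card_ge hp hp2
  have : Nontrivial (Fin n) := Fin.nontrivial_iff_two_le.2 hn
  obtain ⟨hord, B, hB⟩ := exists_conj hp hx' hσ
  have hS := sett (Fin n) σ
  have key : Good p ↥(fixedSubgroup (lift (fld σ) : MulAut (Matrix.ProjectiveSpecialLinearGroup (Fin n) F))) := by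
    by_cases h5 : n = 2 → 4 ≤ Fintype.card ↥(fixf σ)
    · exact good_sett_of_simple hS (isSimple hn h5)
    · push Not at h5
      obtain ⟨rfl, h6⟩ := h5
      have h7 : Fintype.card ↥(fixf σ) = 3 := by omega
      have h8 : Group.IsSolvable (Matrix.SpecialLinearGroup (Fin 2) ↥(fixf σ)) :=
        Cfsg.Agent.LieClassical.Order72.isSolvable_of_card_dvd (by
          rw [TwoFusion.SLTwoFacts.card_eq_24 h7]; norm_num)
      exact good_sett_of_solvable hS h8
  have e : ↥(fixedSubgroup (lift (cj A * fld σ))) ≃* ↥(fixedSubgroup (lift (fld σ) :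
      MulAut (Matrix.ProjectiveSpecialLinearGroup (Fin n) F))) := by
    refine MulEquiv.trans (MulEquiv.subgroupCongr ?_) (fixedConj (lift (cj B)) (lift (fld σ))).symm
    rw [hB, map_mul, map_mul, map_inv]
  exact key.congr e.symm

end Psl

section Psp

open Cfsg.Agent.ClassicalGeometry.SympAutSemi Cfsg.Agent.ClassicalGeometry.SympGamma
open Cfsg.Agent.CpAut.Psp Cfsg.Agent.CpAut.PspRow Cfsg.Agent.CpAut.SpLang

/-- **`PSp_2m(q)`** -/
theorem bpS_psp {F : Type} [Field F] [Fintype F] {p : ℕ} (hp : p.Prime) (hp2 : p ≠ 2) [CharP F p] {m : ℕ} (hm : 2 ≤ m) :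
    BpS p (PSp m F) := by
  have : Fact p.Prime := ⟨hp⟩
  have h3 := card_ge (E := F) hp hp2
  have hsimple : IsSimpleGroup (PSp m F) := S0270.result m hm (fun _ => h3)
  have hfilt : KFacts.RgdFilt.HasFilt p (PSp m F) :=
    KFacts.RgdLieCharP.hasFilt_of_lie (Or.inr (Or.inl ⟨F, inferInstance, inferInstance, inferInstance, m, hm,
      fun _ => h3, ⟨MulEquiv.refl _⟩⟩))
  refine bpS_of_filt hfilt not_comm_quot ?_
  intro x hx hno
  have hx' : x ^ p = 1 := by rw [← hx]; exact pow_orderOf_eq_one x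
  obtain ⟨g, rfl⟩ := exists_semi hm (two_ne hp hp2) x
  obtain ⟨φ, l, hl, hg⟩ := g.2
  have hφ : φ ≠ 1 := by
    rintro rfl
    exact hno (inner_of_lin (by omega) hl hg hx')
  obtain ⟨-, h, hh⟩ := exists_conj (by omega) hp hl hg hx' hφ
  have hchar : CharP ↥(K0 φ) p := charP_K0 φ
  have hfin : Fintype ↥(K0 φ) := Fintype.ofFinite _
  rw [hh]
  refine Good.congr ?_ (fixedConj _ _)
  exact good_sett_of_simple (sett (by omega) φ) (S0270.result m hm (fun _ => card_ge hp hp2))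

end Psp

end Cfsg.Agent.BpLieP.Psl

end

-- merged: Cfsg.Agent.BpLieP.Orth
section

/-!
# S1332: the orthogonal groups `PΩ(V, Q)`, `dim V ≥ 7`, in characteristic `p` odd

* `good` : the automorphisms of order `p` induced by semisimilitudes which are not inner;
* `bpS_odd`, `bpS_plus` (`m ≥ 5`), `bpS_minus`.
-/

set_option autoImplicit false
set_option linter.unusedSectionVars false

namespace Cfsg.Agent.BpLieP.Orth

open QuadraticMap Cfsg
open Cfsg.Agent.LieClassical.OrthCore Cfsg.Agent.LieClassical.OrthTrans Cfsg.Agent.LieClassical.OrthForms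
open Cfsg.Agent.LieClassical.OrthFinite
open Cfsg.Agent.ClassicalGeometry.OrthSemi
open Cfsg.Agent.ClassicalGeometry.OrthSemiForms
open Cfsg.Agent.CpAut Cfsg.Agent.CpAut.OrthMain
open Cfsg.Agent.CpAut.Descent (Semi)
open Cfsg.Agent.CpAut.Psl (fixf mem_fixf)
open Cfsg.Agent.CpAut.Fix Cfsg.Agent.CpAut.Orth

/-- nondegenerate forms with a hyperbolic plane etc. -/
abbrev OGood {F V : Type*} [Field F] [AddCommGroup V] [Module F V] (Q : QuadraticForm F V) : Prop :=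
  Cfsg.Agent.LieClassical.OrthTrans.Good Q

section aut

variable {F : Type} {V : Type*} [Field F] [Finite F] [AddCommGroup V] [Module F V] [Module.Finite F V]
  {Q : QuadraticForm F V}

/-- **The components of the fixed points.** -/
theorem good (hG : OGood Q) (hd : 7 ≤ Module.finrank F V) {p : ℕ} (hp : p.Prime) (hp2 : p ≠ 2) [CharP F p]
    {x : MulAut (↥(E Q) ⧸ Subgroup.center ↥(E Q))} (hx : x ∈ (Psi Q).range) (hxp : orderOf x = p)
    (hno : x ∉ (MulAut.conj : ↥(E Q) ⧸ Subgroup.center ↥(E Q) →* _).range) : BpTab.Good p ↥(fixedSubgroup x) := by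
  classical
  have : Fact p.Prime := ⟨hp⟩
  have hfinV : Finite V := Module.finite_of_finite F
  obtain ⟨M, rfl⟩ := hx
  obtain ⟨σ, l, hM⟩ := M.2
  have hx' : Psi Q M ^ p = 1 := by rw [← hxp]; exact pow_orderOf_eq_one _
  have hσ : σ ≠ 1 := by
    rintro rfl
    exact hno (inner_of_lin hG hp2 hM hx')
  have h1 := hx'
  rw [← map_pow, ← MonoidHom.mem_ker, ker_Psi hG] at h1
  obtain ⟨a, ha⟩ := h1
  have ha' : (scal Q a).1 = M.1 ^ p := congrArg Subtype.val ha
  have hσp : σ ^ p = 1 := by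
    have h2 := isSS_pow hM p
    rw [← ha'] at h2
    obtain ⟨τ, d, h3⟩ := (scal Q a).2
    have h4 : IsSS Q (1 : F ≃+* F) ((a : F) * a) (scal Q a).1 :=
      ⟨mul_ne_zero a.ne_zero a.ne_zero, fun u v => smul_add _ _ _, fun t v => smul_comm _ _ _, fun v => by
        change Q ((a : F) • v) = _
        rw [QuadraticMap.map_smul]
        rfl⟩
    exact (isSS_unique (exists_ne hG) h2 h4).1
  have hord : orderOf σ = p := orderOf_eq_prime hσp hσ
  obtain ⟨v₀, hv₀⟩ := exists_ne hG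
  obtain ⟨c, hc⟩ := Descent.exists_scale (toSemi hM) hord hp.pos a.ne_zero (fun v => by rw [← ha']; rfl)
    ⟨v₀, by rintro rfl; exact hv₀ (QuadraticMap.map_zero Q)⟩
  -- `N = c M`, `N ^ p = 1`
  obtain ⟨N, hN⟩ : ∃ N : Gam Q, N = scal Q c * M := ⟨_, rfl⟩
  have hNv : N.1 = Descent.scal V c * M.1 := by
    rw [hN]
    rfl
  have hNs : IsSS Q σ (c * c * l) N.1 := by
    have hNv' : ∀ v, N.1 v = (c : F) • M.1 v := fun v => by rw [hNv]; rfl
    refine ⟨mul_ne_zero (mul_ne_zero c.ne_zero c.ne_zero) hM.ne, fun u v => ?_, fun x v => ?_, fun v => ?_⟩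
    · rw [hNv', hNv', hNv', hM.add, smul_add]
    · rw [hNv', hNv', hM.smul, smul_comm]
    · rw [hNv', QuadraticMap.map_smul, hM.form, smul_eq_mul, mul_assoc ((c : F) * c)]
  have hNp : N.1 ^ p = 1 := by rw [hNv]; exact hc
  have h5 : Psi Q M = Psi Q N := by
    have h6 : Psi Q (scal Q c) = 1 := by
      rw [← MonoidHom.mem_ker, ker_Psi hG]
      exact ⟨c, rfl⟩
    rw [hN, map_mul, h6, one_mul]
  have h7 : ∏ i ∈ Finset.range p, (σ ^ i) ((c : F) * c * l) = 1 := by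
    have h8 := isSS_pow hNs p
    rw [hNp] at h8
    exact (isSS_unique (exists_ne hG) h8 isSS_one).2
  obtain ⟨e, he, hle⟩ := Descent.hilbert90 hord hp.pos h7
  obtain ⟨b, hb⟩ := Descent.exists_basis (toSemi hNs) hord hp.pos hNp (ι := Fin (Module.finrank F V))
    (by rw [Fintype.card_fin])
  obtain ⟨Q₀, hQ₀⟩ := exists_form hNs hb he hle
  have h2 : (2 : F) ≠ 0 := PspRow.two_ne hp hp2
  have hchar : CharP ↥(fixf σ) p := (RingHom.charP_iff (fixf σ).subtype (fixf σ).subtype.injective p).2 inferInstance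
  have hfin : Fintype ↥(fixf σ) := Fintype.ofFinite _
  have hnd : Nondeg Q₀ := nondeg_zero hQ₀ hG.nondeg
  have hrk : Module.finrank (fixf σ) (Fin (Module.finrank F V) → fixf σ) = Module.finrank F V := by
    rw [Module.finrank_fintype_fun_eq_card, Fintype.card_fin]
  have hG₀ : OGood Q₀ := good_of_finite hnd (by omega)
  have hne : Nonempty (Fin (Module.finrank F V)) := ⟨⟨0, by omega⟩⟩
  have hE : Finite (V ≃ₗ[F] V) := Finite.of_injective (fun g : V ≃ₗ[F] V => (g : V → V)) DFunLike.coe_injective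
  rw [h5]
  have hfinι : Finite (Fin (Module.finrank F V) → fixf σ) := inferInstance
  have hE₀ : Finite ((Fin (Module.finrank F V) → fixf σ) ≃ₗ[fixf σ] (Fin (Module.finrank F V) → fixf σ)) :=
    Finite.of_injective (fun g : (Fin (Module.finrank F V) → fixf σ) ≃ₗ[fixf σ] (Fin (Module.finrank F V) → fixf σ) =>
      (g : (Fin (Module.finrank F V) → fixf σ) → (Fin (Module.finrank F V) → fixf σ))) DFunLike.coe_injective
  exact Base.good_sett_of_simple (sett h2 hG hG₀ hNs hb he hQ₀)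
    (Cfsg.Agent.LieClassical.OrthSimple.good_isSimpleGroup hG₀)

end aut

/-- The general statement. -/
theorem bpS_of_good {F : Type} [Field F] [Fintype F] {p : ℕ} (hp : p.Prime) (hp2 : p ≠ 2) [CharP F p] {ι : Type}
    [Fintype ι] [DecidableEq ι] {Q : QuadraticForm F (ι → F)} (hG : OGood Q) (hd : 7 ≤ Fintype.card ι)
    (hs : Function.Surjective (Psi Q))
    (hfilt : KFacts.RgdLieCharP.IsLieFilt p (↥(E Q) ⧸ Subgroup.center ↥(E Q))) : BpTab.BpS p (POmega F ⇑Q) := by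
  classical
  have : Fact p.Prime := ⟨hp⟩
  have hsimple : IsSimpleGroup (↥(E Q) ⧸ Subgroup.center ↥(E Q)) :=
    Cfsg.Agent.LieClassical.OrthSimple.good_isSimpleGroup hG
  have hE : Finite ((ι → F) ≃ₗ[F] (ι → F)) :=
    Finite.of_injective (fun g : (ι → F) ≃ₗ[F] (ι → F) => (g : (ι → F) → (ι → F))) DFunLike.coe_injective
  have hfin : Finite (POmega F ⇑Q) := Finite.of_equiv _ (pomegaEquiv hG).symm.toEquiv
  refine Base.bpS_congr (pomegaEquiv hG).symm (Base.bpS_of_filt (KFacts.RgdLieCharP.hasFilt_of_lie hfilt)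
    not_comm_quot ?_)
  intro x hx hno
  exact good hG (by rwa [Module.finrank_fintype_fun_eq_card]) hp hp2 (hs x) hx hno

/-- **The row `PΩ_{2m+1}(F)`.** -/
theorem bpS_odd {F : Type} [Field F] [Fintype F] {p : ℕ} (hp : p.Prime) (hp2 : p ≠ 2) [CharP F p] {m : ℕ}
    (hm : 3 ≤ m) : BpTab.BpS p (POmega F (quadFormOdd m F)) := by
  have h2 : (2 : F) ≠ 0 := PspRow.two_ne hp hp2
  have hodd : Odd (Fintype.card F) := Cfsg.Agent.LieClassical.PomegaCard.odd_card_iff.2 h2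
  have hG : OGood (oddForm m F) := good_odd (by omega) h2
  have e := (pomegaEquiv hG).symm
  have h1 := bpS_of_good hp hp2 hG (by
    rw [Fintype.card_sum, Fintype.card_sum, Fintype.card_fin, Fintype.card_unit]
    omega) (AutOrth.Final.surjective_odd hm h2) (by
      rw [coe_oddForm] at e
      exact Or.inr (Or.inr (Or.inr (Or.inl ⟨F, inferInstance, inferInstance, inferInstance, m, hm, hodd, ⟨e⟩⟩))))
  rwa [coe_oddForm] at h1

/-- **The row `PΩ⁺_{2m}(F)`, `m ≥ 5`.** -/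
theorem bpS_plus {F : Type} [Field F] [Fintype F] {p : ℕ} (hp : p.Prime) (hp2 : p ≠ 2) [CharP F p] {m : ℕ}
    (hm : 5 ≤ m) : BpTab.BpS p (POmega F (quadFormPlus m F)) := by
  have hG : OGood (plusForm m F) := good_plus (by omega)
  have e := (pomegaEquiv hG).symm
  have h1 := bpS_of_good hp hp2 hG (by
    rw [Fintype.card_sum, Fintype.card_fin]
    omega) (AutOrth.Final.surjective_plus hm) (by
      rw [coe_plusForm] at e
      exact Or.inr (Or.inr (Or.inr (Or.inr (Or.inl ⟨F, inferInstance, inferInstance, inferInstance, m, by omega,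
        ⟨e⟩⟩)))))
  rwa [coe_plusForm] at h1

/-- **The row `PΩ⁻_{2m}(F)`.** -/
theorem bpS_minus {F : Type} [Field F] [Fintype F] {p : ℕ} (hp : p.Prime) (hp2 : p ≠ 2) [CharP F p] {m : ℕ}
    (hm : 4 ≤ m) (a b : F) (hab : ∀ z₁ z₂ : F, z₁ ^ 2 + a * z₁ * z₂ + b * z₂ ^ 2 = 0 → z₁ = 0 ∧ z₂ = 0) :
    BpTab.BpS p (POmega F (quadFormMinus (m - 1) F a b)) := by
  have hG : OGood (minusForm (m - 1) F a b) := good_minus (by omega) a b hab
  have e := (pomegaEquiv hG).symm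
  have h1 := bpS_of_good hp hp2 hG (by
    rw [Fintype.card_sum, Fintype.card_sum, Fintype.card_fin, Fintype.card_fin]
    omega) (AutOrth.Final.surjective_minus (by omega) hab) (by
      rw [coe_minusForm] at e
      exact Or.inr (Or.inr (Or.inr (Or.inr (Or.inr (Or.inl ⟨F, inferInstance, inferInstance, inferInstance, m, a, b,
        hm, hab, ⟨e⟩⟩))))))
  rwa [coe_minusForm] at h1

end Cfsg.Agent.BpLieP.Orth

end

-- merged: Cfsg.Agent.BpLieP.Ht
section

/-!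
# S1332: the subgroup generated by the root groups of height at least `3`

A root group datum with the Chevalley commutator formula `IntComm` all of whose roots have height at most `5`:
`V = Sup X {z | 3 ≤ hgt z}` is an elementary abelian `p`-group normalised by `U` and by the automorphisms fixing `U`.
-/

set_option autoImplicit false
set_option linter.unusedSectionVars false

namespace Cfsg.Agent.BpLieP.Ht

open CoxeterSystem Cfsg.Agent.ChevalleyStructure.CoxeterGeom Cfsg.Agent.Tits.Roots Cfsg.Agent.Tits.Core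
  Cfsg.Agent.Nodes.Reps Cfsg.Agent.Nodes.BNOf Cfsg.Agent.Nodes.Unique
  Cfsg.Agent.KFacts.RgdAut Cfsg.Agent.KFacts.RgdDiag Cfsg.Agent.KFacts.RgdBorelTits Cfsg.Agent.KFacts.RgdFilt
open scoped commutatorElement

variable {I W Y : Type*} [Fintype I] [DecidableEq I] [Group W] [Group Y] {M : CoxeterMatrix I}
  {cs : CoxeterSystem M W} {A : I → I → ℤ} {h : IsCartan M A} {p : ℕ} {T : Subgroup Y} {n : I → Y}
  {X : (I → ℤ) → Subgroup Y}

/-- restriction of the commutator formula -/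
theorem intComm_restrict (hX : IntComm cs h X) (K : Subgroup Y) (hK : ∀ x, IsRoot cs h x → X x ≤ K) :
    IntComm cs h (fun x => (X x).subgroupOf K) := by
  intro x y hx hy hxy hxy' a ha b hb
  have h1 := hX x y hx hy hxy hxy' a ha b hb
  have h3 : FS (fun z => (X z).subgroupOf K) {z | IB cs h x y z} = (FS X {z | IB cs h x y z}).subgroupOf K := by
    unfold FS
    rw [Nodes.RGDLib.iSup_subgroupOf]
    rintro ⟨z, hz⟩
    exact hK z hz.1
  rw [h3, Subgroup.mem_subgroupOf]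
  exact h1

/-- the height -/
def hgt (x : I → ℤ) : ℤ := ∑ i, x i

theorem hgt_add (x y : I → ℤ) : hgt (x + y) = hgt x + hgt y := Finset.sum_add_distrib

theorem hgt_smul (a : ℤ) (x : I → ℤ) : hgt (a • x) = a * hgt x := by
  unfold hgt
  rw [Finset.mul_sum]
  rfl

theorem hgt_comp (σ : Equiv.Perm I) (x : I → ℤ) : hgt (x ∘ σ.symm) = hgt x := Equiv.sum_comp σ.symm x

/-- the roots of height at least `3` -/
def S3 (cs : CoxeterSystem M W) (h : IsCartan M A) : Set (I → ℤ) := {x | IsRoot cs h x ∧ 3 ≤ hgt x}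

theorem hgt_pos {x : I → ℤ} (hx : x ∈ RGD.Pos cs h) : 1 ≤ hgt x := by
  have h1 : 0 ≤ hgt x := Finset.sum_nonneg fun i _ => hx.2 i
  rcases h1.lt_or_eq with h2 | h2
  · omega
  · exfalso
    have h3 : x = 0 := by
      funext i
      exact (Finset.sum_eq_zero_iff_of_nonneg (fun i _ => hx.2 i)).1 h2.symm i (Finset.mem_univ i)
    exact hx.1.not_pos_neg hx.2 h3.le

theorem pos_of_mem [Finite W] {x : I → ℤ} (hx : x ∈ S3 cs h) : x ∈ RGD.Pos cs h := by
  refine ⟨hx.1, ?_⟩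
  rcases hx.1.pos_or_neg with h1 | h1
  · exact h1
  · exfalso
    have h2 : hgt x ≤ 0 := Finset.sum_nonpos fun i _ => h1 i
    have := hx.2
    omega

theorem ib_hgt {x y z : I → ℤ} (hz : IB cs h x y z) (hx : 0 ≤ hgt x) (hy : 0 ≤ hgt y) : hgt x + hgt y ≤ hgt z := by
  obtain ⟨-, i, j, hi, hj, rfl⟩ := hz
  rw [hgt_add, hgt_smul, hgt_smul]
  nlinarith

section Main

variable (R : RGD cs h p T n X) (hI : IntComm cs h X) (hmax : ∀ x, IsRoot cs h x → hgt x ≤ 5)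

include hI in
theorem FS_le [Finite W] {x y : I → ℤ} (hx : x ∈ RGD.Pos cs h) (hy : y ∈ S3 cs h) :
    FS X {z | IB cs h x y z} ≤ RGD.Sup X (S3 cs h) := by
  refine iSup_le fun z => ?_
  obtain ⟨z, hz⟩ := z
  have h1 : IB cs h x y z := hz
  refine RGD.le_Sup (S := S3 cs h) ⟨h1.1, ?_⟩
  have h2 := ib_hgt h1 (by have := hgt_pos hx; omega) (by have := hy.2; omega)
  have h3 := hgt_pos hx
  have h4 := hy.2
  show 3 ≤ hgt z
  omega

include hI hmax

/-- the root groups of `V` commute -/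
theorem comm_S3 [Finite W] {x y : I → ℤ} (hx : x ∈ S3 cs h) (hy : y ∈ S3 cs h) (hxy : x ≠ y) {a b : Y} (ha : a ∈ X x)
    (hb : b ∈ X y) : a * b = b * a := by
  have hxy' : x ≠ -y := by
    intro e
    have h1 := hx.2
    have h2 := hy.2
    rw [e] at h1
    have h3 : hgt (-y) = -hgt y := by
      unfold hgt
      rw [← Finset.sum_neg_distrib]
      rfl
    omega
  have h1 := hI x y hx.1 hy.1 hxy hxy' a ha b hb
  have h2 : FS X {z | IB cs h x y z} = ⊥ := by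
    rw [eq_bot_iff]
    refine iSup_le fun z => ?_
    obtain ⟨z, hz⟩ := z
    exfalso
    have h3 : IB cs h x y z := hz
    have h4 := ib_hgt h3 (by have := hx.2; omega) (by have := hy.2; omega)
    have h5 := hmax z h3.1
    have h6 := hx.2
    have h7 := hy.2
    omega
  rw [h2, Subgroup.mem_bot, commutatorElement_eq_one_iff_mul_comm] at h1
  exact h1

theorem V_comm [Finite W] (hab : ∀ z ∈ S3 cs h, ∀ a ∈ X z, ∀ b ∈ X z, a * b = b * a) :
    ∀ a ∈ RGD.Sup X (S3 cs h), ∀ b ∈ RGD.Sup X (S3 cs h), a * b = b * a := by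
  have h1 : RGD.Sup X (S3 cs h) ≤ Subgroup.centralizer (RGD.Sup X (S3 cs h) : Set Y) := by
    refine RGD.Sup_le fun x hx => ?_
    rw [Subgroup.le_centralizer_iff]
    refine RGD.Sup_le fun y hy => ?_
    intro b hb
    rw [Subgroup.mem_centralizer_iff]
    intro a ha
    by_cases hxy : x = y
    · subst hxy
      exact hab x hx a ha b hb
    · exact comm_S3 hI hmax hx hy hxy ha hb
  intro a ha b hb
  exact (Subgroup.mem_centralizer_iff.1 (h1 hb)) a ha

theorem V_exp [Finite W] (hab : ∀ z ∈ S3 cs h, ∀ a ∈ X z, ∀ b ∈ X z, a * b = b * a)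
    (hexp : ∀ z ∈ S3 cs h, ∀ a ∈ X z, a ^ p = 1) : ∀ a ∈ RGD.Sup X (S3 cs h), a ^ p = 1 := by
  have hc := V_comm hI hmax hab
  let P : Subgroup Y :=
    { carrier := {a | a ∈ RGD.Sup X (S3 cs h) ∧ a ^ p = 1}
      mul_mem' := fun {a b} ha hb => ⟨mul_mem ha.1 hb.1, by
        have h1 : Commute a b := hc a ha.1 b hb.1
        rw [h1.mul_pow, ha.2, hb.2, one_mul]⟩
      one_mem' := ⟨one_mem _, one_pow p⟩
      inv_mem' := fun {a} ha => ⟨inv_mem ha.1, by rw [inv_pow, ha.2, inv_one]⟩ }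
  have h1 : RGD.Sup X (S3 cs h) ≤ P := RGD.Sup_le fun z hz a ha => ⟨RGD.le_Sup hz ha, hexp z hz a ha⟩
  exact fun a ha => (h1 ha).2

omit hmax in
/-- `U` normalises `V` -/
theorem U_le_normalizer [Finite W] : RGD.Sup X (RGD.Pos cs h) ≤
    Subgroup.normalizer (RGD.Sup X (S3 cs h) : Set Y) := by
  refine RGD.Sup_le fun y hy => ?_
  apply Cfsg.Agent.S0058.le_normalizer_of_conj_mem
  intro b hb v hv
  have h1 : RGD.Sup X (S3 cs h) ≤ (RGD.Sup X (S3 cs h)).comap (MulAut.conj b).toMonoidHom := by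
    refine RGD.Sup_le fun z hz a ha => ?_
    rw [Subgroup.mem_comap]
    show b * a * b⁻¹ ∈ _
    by_cases hyz : y = z
    · subst hyz
      exact RGD.le_Sup hz (mul_mem (mul_mem hb ha) (inv_mem hb))
    · have hyz' : y ≠ -z := by
        intro e
        exact hy.1.not_pos_neg hy.2 (by rw [e]; exact neg_nonpos.2 (pos_of_mem hz).2)
      have h2 := FS_le hI hy hz (hI y z hy.1 hz.1 hyz hyz' b hb a ha)
      have h3 : b * a * b⁻¹ = ⁅b, a⁆ * a := by rw [commutatorElement_def]; group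
      rw [h3]
      exact mul_mem h2 (RGD.le_Sup hz ha)
  exact h1 hv

omit hmax in
/-- the automorphisms fixing `U` act on `V` -/
theorem map_V [Finite W] (R : RGD cs h p T n X) {α : MulAut Y} {u : Y} (hu : u ∈ RGD.Sup X (RGD.Pos cs h))
    {σ : Equiv.Perm I} (D : Diag T X (MulAut.conj u * α) σ) (hA : ∀ i j, A (σ i) (σ j) = A i j) :
    ∀ v ∈ RGD.Sup X (S3 cs h), α v ∈ RGD.Sup X (S3 cs h) := by
  intro v hv
  have h1 : RGD.Sup X (S3 cs h) ≤ (RGD.Sup X (S3 cs h)).comap (MulAut.conj u * α).toMonoidHom := by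
    refine RGD.Sup_le fun z hz a ha => ?_
    have h2 := (D.root_comp R hA hz.1 a).2 ha
    refine RGD.le_Sup (S := S3 cs h) ⟨?_, ?_⟩ h2
    · obtain ⟨w, i, rfl⟩ := hz.1
      rw [← rep_hat (D.matrix R) hA, sr_comp]
      exact ⟨_, _, rfl⟩
    · rw [hgt_comp]
      exact hz.2
  have h3 : u * α v * u⁻¹ ∈ RGD.Sup X (S3 cs h) := h1 hv
  exact (Subgroup.mem_normalizer_iff.1 (U_le_normalizer hI hu) _).2 h3

end Main

/-- **The main statement.** -/
theorem good_of_tw [Finite W] [Finite Y] [IsSimpleGroup Y] [Fact p.Prime] (R : RGD cs h p T n X)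
    (hI : IntComm cs h X) (hmax : ∀ x, IsRoot cs h x → hgt x ≤ 5) (hfilt : HasFilt p Y)
    (hc : ∃ a b : Y, a * b ≠ b * a)
    (hab : ∀ z ∈ S3 cs h, ∀ a ∈ X z, ∀ b ∈ X z, a * b = b * a) (hexp : ∀ z ∈ S3 cs h, ∀ a ∈ X z, a ^ p = 1)
    {s : Finset (I → ℤ)} (hs : (s : Set (I → ℤ)) = S3 cs h) (hcl : Closed cs h (s : Set (I → ℤ)))
    (hcard : p ^ p < ∏ x ∈ s, Nat.card ↥(X x)) {x : MulAut Y} (hx : x ^ p = 1) {g u : Y} {σ : Equiv.Perm I}
    (hA : ∀ i j, A (σ i) (σ j) = A i j) (hu : u ∈ RGD.Sup X (RGD.Pos cs h))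
    (D : Diag T X (MulAut.conj u * ((MulAut.conj g)⁻¹ * x * MulAut.conj g)) σ) :
    BpTab.Good p ↥(fixedSubgroup x) := by
  have hsub : (s : Set (I → ℤ)) ⊆ RGD.Pos cs h := by
    rw [hs]
    exact fun z hz => pos_of_mem hz
  have h1 := Nodes.CardSup.card_sup R hsub hcl
  rw [hs] at h1
  have hx' : ((MulAut.conj g)⁻¹ * x * MulAut.conj g) ^ p = 1 := by
    have h2 := CpAut.RgdCoh.pow_conj_eq_one (δ := (MulAut.conj g)⁻¹) hx
    rwa [inv_inv] at h2
  have h2 := Big.good_of_big hfilt hc hx' (RGD.Sup X (S3 cs h)) (map_V hI R hu D hA) (V_comm hI hmax hab)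
    (V_exp hI hmax hab hexp) (by rw [h1]; exact hcard)
  have e := CpAut.Fix.fixedConj (MulAut.conj g) ((MulAut.conj g)⁻¹ * x * MulAut.conj g)
  have h3 : MulAut.conj g * ((MulAut.conj g)⁻¹ * x * MulAut.conj g) * (MulAut.conj g)⁻¹ = x := by group
  rw [h3] at e
  exact h2.congr e

end Cfsg.Agent.BpLieP.Ht

end

-- merged: Cfsg.Agent.BpLieP.Tw
section

/-!
# S1332: `²E₆(q)` in characteristic `p` odd

* `good_of_DD` : the fixed points of a frame automorphism of order `p`;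
* `bpS_twistedE6`.
-/

set_option autoImplicit false
set_option linter.unusedSectionVars false
set_option maxHeartbeats 400000

namespace Cfsg.Agent.BpLieP.Tw

open CoxeterSystem Cfsg.Agent.ChevalleyStructure.CoxeterGeom Cfsg.Agent.Tits.Roots Cfsg.Agent.Tits.Core
  Cfsg.Agent.Tits.Exchange Cfsg.Agent.Nodes.Reps Cfsg.Agent.Nodes.BNOf Cfsg.Agent.Nodes.StabComb
  Cfsg.Agent.Nodes.Bruhat Cfsg.Agent.Nodes.OppDec Cfsg.Agent.Nodes.RGDTwGen Cfsg.Agent.Nodes.RGDChev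
  Cfsg.Agent.Nodes.RGDFold Cfsg.Agent.Nodes.RGDFoldSL
open Cfsg.Agent.KFacts.RgdOpp Cfsg.Agent.KFacts.RgdAut Cfsg.Agent.KFacts.RgdDiag Cfsg.Agent.KFacts.RgdRigid
  Cfsg.Agent.KFacts.RgdField Cfsg.Agent.KFacts.RgdTau Cfsg.Agent.KFacts.RgdNodes
open Cfsg.Lie Cfsg.Agent.ChevalleyStructure Cfsg.Agent.ChevalleyStructure.Elts Cfsg.Agent.ChevStructure.FieldMap
open Cfsg.Agent.ChevalleyStructure.SL2Hom (up lo)
open Cfsg.Agent.KFacts.TwESix.NodeCoord Cfsg.Agent.KFacts.TwESix.Out Cfsg.Agent.KFacts.TwESix.OutTwo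
open Cfsg.Agent.Nodes.RGDTwE6 Cfsg.Agent.Nodes.RGDTwNode.E6
open Cfsg.Agent.ChevalleyStructure.TwE6Basic (hE6 single_mem pair_mem twisted_le_iff exists_frob)
open Cfsg.Agent.CpAut Cfsg.Agent.CpAut.RgdFix Cfsg.Agent.CpAut.RgdCoh Cfsg.Agent.CpAut.RgdConj Cfsg.Agent.CpAut.RgdSub
  Cfsg.Agent.CpAut.RgdTwStd Cfsg.Agent.CpAut.RgdTwE6
open Cfsg.Agent.BpTab Cfsg.Agent.BpLieP.Base

universe u

section DD

variable {I W : Type*} {Y : Type u} [Fintype I] [DecidableEq I] [Group W] [Group Y] {M : CoxeterMatrix I}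
  {cs : CoxeterSystem M W} {A : I → I → ℤ} {h : IsCartan M A} {p : ℕ} {T : Subgroup Y} {n : I → Y}
  {X : (I → ℤ) → Subgroup Y}

/-- the fixed points of a frame automorphism of order `p` -/
theorem good_of_DD (R : RGD cs h p T n X) [Finite W] [Finite Y] [Fact p.Prime]
    (hG1 : RGD.Sup X {x | IsRoot cs h x} = ⊤) {φ : MulAut Y} (D : Diag T X φ 1) (hφ : φ ^ p = 1)
    (hC : Good p ↥(DD cs h X φ)) : Good p ↥(fixedSubgroup φ) := by
  have hφ' : φ ^ p ^ 1 = 1 := by rw [pow_one]; exact hφ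
  have hN := DD_normal R (GG_eq_top (T := T) hG1) D hφ'
  exact good_of_normal_coprime Fact.out ((DD cs h X φ).subgroupOf (fixedSubgroup φ))
    (not_dvd_index R (GG_eq_top (T := T) hG1) D hφ') (hC.congr (Subgroup.subgroupOfEquivOfLe DD_le_fix).symm)

end DD

/-- the fixed field -/
theorem simple_sub {K : Type u} [Field K] [Fintype K] (p : ℕ) [Fact p.Prime] [CharP K p] (hp2 : p ≠ 2) {q : ℕ}
    (hq : IsPrimePow q) (hK : Fintype.card K = q ^ 2) {τ : K ≃+* K} (hτ : τ ^ p = 1) (hτ1 : τ ≠ 1) :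
    IsSimpleGroup ↥(twistedE6 ↥(fixF τ) q) := by
  have hp : p.Prime := Fact.out
  have hk := card_fixF hp hτ hτ1
  have := Fintype.ofFinite ↥(fixF τ)
  obtain ⟨q', hq', h1, h2⟩ := exists_root (n := 2) hp Nat.prime_two hp2 hq (k := Nat.card ↥(fixF τ))
    Finite.one_lt_card (by rw [← hk, Nat.card_eq_fintype_card, hK])
  obtain ⟨j, hj⟩ := hp.odd_of_ne_two hp2
  have h3 : ∀ t : ↥(fixF τ), t ^ q = t ^ q' := by
    intro t
    have h4 : t ^ (q' ^ 2) = t := by
      rw [← h1, Nat.card_eq_fintype_card]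
      exact FiniteField.pow_card t
    rw [h2, hj, pow_succ, pow_mul, pow_mul q' 2 j, pow_iter h4 j]
  rw [tw_congr h3]
  have hK' : Fintype.card ↥(fixF τ) = q' ^ 2 := by rw [← Nat.card_eq_fintype_card, h1]
  exact (Cfsg.Agent.S1070.result hq' hK').1

/-- **`²E₆(q)` in odd characteristic `p`.** -/
theorem bpS_twistedE6 {K : Type} [Field K] [Fintype K] (p : ℕ) [Fact p.Prime] [CharP K p] (hp2 : p ≠ 2) {q : ℕ}
    (hq : IsPrimePow q) (hK : Fintype.card K = q ^ 2) : BpS p ↥(twistedE6 K q) := by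
  intro x hx
  have hp : p.Prime := Fact.out
  obtain ⟨φ, hφ, hqq⟩ := exists_frob hq hK
  have hW : Finite CoxeterMatrix.F₄.Group :=
    Nodes.RGDFold.finite_W (hp := Nodes.RGDTwE6.hp) CoxeterMatrix.F₄.toCoxeterSystem Nodes.RGDTwE6.isCartan
      Nodes.RGDTwE6.foldData
  obtain ⟨cs, hcs⟩ : ∃ cs : CoxeterSystem CoxeterMatrix.F₄ CoxeterMatrix.F₄.Group, cs = cs := ⟨CoxeterMatrix.F₄.toCoxeterSystem, rfl⟩
  have R := Cfsg.Agent.Nodes.RGDTwE6.rgd cs hφ hqq p
  have hG1 := G1_top cs hφ hqq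
  obtain ⟨hs, hna⟩ := Cfsg.Agent.S1070.result hq hK
  have hc : ∃ a b : ↥(twistedE6 K q), a * b ≠ b * a := by
    by_contra hcon
    push Not at hcon
    exact hna ⟨⟨hcon⟩⟩
  have hxp : x ^ p = 1 := by rw [← hx, pow_orderOf_eq_one]
  have hτ : ∀ (β : MulAut ↥(twistedE6 K q)) (τ' : ∀ i, KF φ i ≃+* KF φ i),
      NTau (T K q) (X φ q) (chE hφ hqq) β τ' → β ^ p = 1 →
      ∃ τ : K ≃+* K, τ' = rs hφ τ ∧ τ ^ p = 1 := by
    intro β τ' S hβ
    obtain ⟨τ, S'⟩ := exists_ftau hφ hqq cs p S.diag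
    refine ⟨τ, NTau.unique (coordE hφ hqq) S (ntau_of_ftau hφ hqq S'), ?_⟩
    have h2 := ftau_pow hφ hqq S' p
    rw [hβ] at h2
    exact FTau.unique hφ hqq h2 (FTau.one hφ hqq)
  have hrs1 : rs hφ (1 : K ≃+* K) = 1 := by
    funext i
    ext a
    rfl
  rcases RgdNConj.inner_or_conj R hG1 (coordE hφ hqq) (fun σ hσ hσ' _ => by
      apply perm_F4 σ hσ
      intro h3
      have h4 := hσ' 0
      rw [h3] at h4
      exact card_ne hφ hqq hK hq.one_lt h4) (fun β τ' S hβ => by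
      obtain ⟨τ, rfl, hτp⟩ := hτ β τ' S hβ
      by_cases h1 : τ = 1
      · left
        rw [h1, hrs1]
      · right
        exact fun i hi => h1 (eq_one_of_rs hφ hqq hp hp2 hτp i hi)) hxp with ⟨g, rfl⟩ | ⟨β, τ', S, hβ, hτ1, h1⟩
  · exact good_conj (KFacts.RgdFiltTwAll.hasFilt_E6 hq hK p) hc hx
  · obtain ⟨τ, rfl, hτp⟩ := hτ β τ' S hβ
    have hτ1' : τ ≠ 1 := by
      rintro rfl
      exact hτ1 hrs1
    obtain ⟨e, he⟩ := h1 (st q τ) (st_pow τ hτp) (ntau_st hφ hqq τ cs p)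
    obtain ⟨f⟩ := DD_equiv hφ hqq τ cs p (m := 1) (by rw [pow_one]; exact hτp)
    have hfin : Finite ↥(twistedE6 ↥(fixF τ) q) := Finite.of_equiv _ f.toEquiv
    have h2 : Good p ↥(fixedSubgroup (st q τ)) :=
      good_of_DD R hG1 (ntau_st hφ hqq τ cs p).diag (st_pow τ hτp)
        ((good_of_simple (simple_sub p hp2 hq hK hτp hτ1')).congr f.symm)
    have h3 : MulAut.congr e (st q τ) = x := by
      rw [he]
      ext y
      rfl
    rw [← h3]
    exact h2.congr (fixEquiv e (st q τ))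

end Cfsg.Agent.BpLieP.Tw

end

-- merged: Cfsg.Agent.BpLieP.TwD4
section

/-!
# S1332: `³D₄(q)` in characteristic `p ≥ 5`

* `bpS_twistedD4` : `BpS p ³D₄(q)` for `p ≠ 2, 3`.
-/

set_option autoImplicit false
set_option linter.unusedSectionVars false
set_option maxHeartbeats 400000

namespace Cfsg.Agent.BpLieP.TwD4

open CoxeterSystem Cfsg.Agent.ChevalleyStructure.CoxeterGeom Cfsg.Agent.Tits.Roots Cfsg.Agent.Tits.Core
  Cfsg.Agent.Tits.Exchange Cfsg.Agent.Nodes.Reps Cfsg.Agent.Nodes.BNOf Cfsg.Agent.Nodes.StabComb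
  Cfsg.Agent.Nodes.Bruhat Cfsg.Agent.Nodes.OppDec Cfsg.Agent.Nodes.RGDTwGen Cfsg.Agent.Nodes.RGDChev
  Cfsg.Agent.Nodes.RGDFold Cfsg.Agent.Nodes.RGDFoldSL
open Cfsg.Agent.KFacts.RgdOpp Cfsg.Agent.KFacts.RgdAut Cfsg.Agent.KFacts.RgdDiag Cfsg.Agent.KFacts.RgdRigid
  Cfsg.Agent.KFacts.RgdField Cfsg.Agent.KFacts.RgdTau Cfsg.Agent.KFacts.RgdNodes
open Cfsg.Lie Cfsg.Agent.ChevalleyStructure Cfsg.Agent.ChevalleyStructure.Elts Cfsg.Agent.ChevStructure.FieldMap
open Cfsg.Agent.ChevalleyStructure.SL2Hom (up lo)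
open Cfsg.Agent.ChevalleyStructure.SignedSymm
open Cfsg.Agent.KFacts.TwDFour.Out
open Cfsg.Agent.Nodes.RGDTwD4 Cfsg.Agent.Nodes.RGDTwNode.D4
open Cfsg.Agent.ParSys.Fam.D4 (hf)
open Cfsg.Agent.CpAut Cfsg.Agent.CpAut.RgdFix Cfsg.Agent.CpAut.RgdCoh Cfsg.Agent.CpAut.RgdConj Cfsg.Agent.CpAut.RgdSub
  Cfsg.Agent.CpAut.RgdTwStd Cfsg.Agent.CpAut.RgdTwD4
open Cfsg.Agent.BpTab Cfsg.Agent.BpLieP.Base

universe u

/-- the fixed field -/
theorem simple_sub {K : Type u} [Field K] [Fintype K] (p : ℕ) [Fact p.Prime] [CharP K p] (hp3 : p ≠ 3)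
    {q : ℕ} (hq : IsPrimePow q) (hK : Fintype.card K = q ^ 3) {τ : K ≃+* K} (hτ : τ ^ p = 1) (hτ1 : τ ≠ 1) :
    IsSimpleGroup ↥(twistedD4 ↥(fixF τ) q) := by
  have hp : p.Prime := Fact.out
  have hk := card_fixF hp hτ hτ1
  have := Fintype.ofFinite ↥(fixF τ)
  obtain ⟨q', hq', h1, h2⟩ := exists_root (n := 3) hp Nat.prime_three hp3 hq (k := Nat.card ↥(fixF τ))
    Finite.one_lt_card (by rw [← hk, Nat.card_eq_fintype_card, hK])
  have h4 : ∀ t : ↥(fixF τ), t ^ (q' ^ 3) = t := by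
    intro t
    rw [← h1, Nat.card_eq_fintype_card]
    exact FiniteField.pow_card t
  have hK' : Fintype.card ↥(fixF τ) = q' ^ 3 := by rw [← Nat.card_eq_fintype_card, h1]
  obtain ⟨hs, hna⟩ := Cfsg.Agent.S1071.result hq' hK'
  have hmod : p % 3 = 1 ∨ p % 3 = 2 := by
    have h0 : p % 3 ≠ 0 := fun h => hp3 ((Nat.prime_dvd_prime_iff_eq Nat.prime_three hp).1
      (Nat.dvd_of_mod_eq_zero h)).symm
    omega
  have hdm := Nat.div_add_mod p 3
  rcases hmod with hm | hm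
  · have h3 : ∀ t : ↥(fixF τ), t ^ q = t ^ q' := by
      intro t
      rw [h2, ← hdm, hm, pow_succ, pow_mul, pow_mul q' 3, pow_iter (h4 t)]
    rw [tw_congr h3]
    exact hs
  · have h3 : ∀ t : ↥(fixF τ), t ^ q = t ^ (q' ^ 2) := by
      intro t
      rw [h2, ← hdm, hm, pow_add, pow_mul, pow_mul q' 3, pow_iter (h4 t)]
    have h5 : ∀ t : ↥(fixF τ), (t ^ q) ^ q = t ^ q' := by
      intro t
      rw [h3, h3, ← pow_mul]
      have e : q' ^ 2 * q' ^ 2 = q' ^ 3 * q' := by ring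
      rw [e, pow_mul, h4]
    have h6 : ∀ t : ↥(fixF τ), (t ^ q') ^ q' = t ^ q := by
      intro t
      rw [h3, ← pow_mul, ← pow_two]
    obtain ⟨f⟩ := swap_equiv h5 h6
    exact (CpQuot.Congr.isSimple_iff f).2 hs

/-- **`³D₄(q)` in characteristic `p ≥ 5`.** -/
theorem bpS_twistedD4 {K : Type} [Field K] [Fintype K] (p : ℕ) [Fact p.Prime] [CharP K p]
    (hp3 : p ≠ 3) {q : ℕ} (hq : IsPrimePow q) (hK : Fintype.card K = q ^ 3) : BpS p ↥(twistedD4 K q) := by
  intro x hx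
  have hp : p.Prime := Fact.out
  obtain ⟨φ, hφ⟩ := D4Fixed.exists_frob hq hK
  obtain ⟨cs, hcs⟩ : ∃ cs : CoxeterSystem CoxeterMatrix.G₂ CoxeterMatrix.G₂.Group, cs = cs :=
    ⟨CoxeterMatrix.G₂.toCoxeterSystem, rfl⟩
  have hW : Finite CoxeterMatrix.G₂.Group := finiteW cs
  have R := Cfsg.Agent.Nodes.RGDTwD4.rgd cs hK hφ p
  have hG1 : RGD.Sup (X φ q) {x | IsRoot cs isCartan x} = ⊤ := G1_eq_top cs hK hφ
  obtain ⟨hs, hna⟩ := Cfsg.Agent.S1071.result hq hK
  have hc : ∃ a b : ↥(twistedD4 K q), a * b ≠ b * a := by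
    by_contra hcon
    push Not at hcon
    exact hna ⟨⟨hcon⟩⟩
  have hxp : x ^ p = 1 := by rw [← hx, pow_orderOf_eq_one]
  have hτ : ∀ (β : MulAut ↥(twistedD4 K q)) (τ' : ∀ i, KD φ i ≃+* KD φ i),
      NTau (T K q) (X φ q) (chD hφ hK) β τ' → β ^ p = 1 →
      ∃ τ : K ≃+* K, τ' = rs hφ τ ∧ τ ^ p = 1 := by
    intro β τ' S hβ
    obtain ⟨τ, S'⟩ := exists_dtau hφ hK cs p S.diag
    refine ⟨τ, NTau.unique (coordD hφ hK) S (ntau_of_dtau hφ hK S'), ?_⟩
    have h2 := dtau_pow hφ hK S' p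
    rw [hβ] at h2
    exact DTau.unique hφ hK h2 (DTau.one hφ hK)
  have hrs1 : rs hφ (1 : K ≃+* K) = 1 := by
    funext i
    ext a
    rfl
  rcases RgdNConj.inner_or_conj R hG1 (coordD hφ hK) (fun σ hσ hσ' _ => by
      apply perm_G2 σ
      intro h3
      have h4 := hσ' 0
      rw [h3] at h4
      exact card_ne hφ hK hq.one_lt h4) (fun β τ' S hβ => by
      obtain ⟨τ, rfl, hτp⟩ := hτ β τ' S hβ
      by_cases h1 : τ = 1
      · left
        rw [h1, hrs1]
      · right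
        exact fun i hi => h1 (eq_one_of_rs hφ hK hp hp3 hτp i hi)) hxp with ⟨g, rfl⟩ | ⟨β, τ', S, hβ, hτ1, h1⟩
  · exact good_conj (KFacts.RgdFiltTwAll.hasFilt_D4 hq hK p) hc hx
  · obtain ⟨τ, rfl, hτp⟩ := hτ β τ' S hβ
    have hτ1' : τ ≠ 1 := by
      rintro rfl
      exact hτ1 hrs1
    obtain ⟨e, he⟩ := h1 (st q τ) (st_pow τ hτp) (ntau_st hφ hK τ cs p)
    obtain ⟨f⟩ := DD_equiv hφ hK τ cs p (m := 1) (by rw [pow_one]; exact hτp)
    have hfin : Finite ↥(twistedD4 ↥(fixF τ) q) := Finite.of_equiv _ f.toEquiv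
    have h2 : Good p ↥(fixedSubgroup (st q τ)) :=
      Tw.good_of_DD R hG1 (ntau_st hφ hK τ cs p).diag (st_pow τ hτp)
        ((good_of_simple (simple_sub p hp3 hq hK hτp hτ1')).congr f.symm)
    have h3 : MulAut.congr e (st q τ) = x := by
      rw [he]
      ext y
      rfl
    rw [← h3]
    exact h2.congr (fixEquiv e (st q τ))

end Cfsg.Agent.BpLieP.TwD4

end

-- merged: Cfsg.Agent.BpLieP.Tri
section

/-!
# S1332: `D₄(q)` and `³D₄(q)` in characteristic `3`, all automorphisms of order `3`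

* `bpS_D4_three`, `bpS_twistedD4_three`.
-/

set_option autoImplicit false
set_option linter.unusedSectionVars false

namespace Cfsg.Agent.BpLieP.Tri

open CoxeterSystem Cfsg.Agent.ChevalleyStructure.CoxeterGeom Cfsg.Agent.Tits.Roots Cfsg.Agent.Tits.Core
  Cfsg.Agent.Nodes.Reps Cfsg.Agent.Nodes.BNOf Cfsg.Agent.Nodes.Unique Cfsg.Agent.Nodes.OppDec
  Cfsg.Agent.KFacts.RgdAut Cfsg.Agent.KFacts.RgdDiag Cfsg.Agent.KFacts.RgdBorelTits Cfsg.Agent.KFacts.RgdFilt
  Cfsg.Agent.KFacts.RgdField Cfsg.Agent.KFacts.RgdTau Cfsg.Agent.KFacts.RgdRigid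
  Cfsg.Agent.CpAut.RgdConj Cfsg.Agent.CpAut.RgdCoh Cfsg.Agent.BpLieP.Ht
open Cfsg.Lie Cfsg.Agent.ChevalleyStructure

universe u

/-! ### root groups -/

section Coord

variable {Y F : Type*} [Group Y] [Field F] {T P : Subgroup Y} {x : F → Y} {χ : Y → F}

theorem coord_comm (C : Coord T P x χ) : ∀ a ∈ P, ∀ b ∈ P, a * b = b * a := by
  intro a ha b hb
  obtain ⟨s, rfl⟩ := (C.mem a).1 ha
  obtain ⟨t, rfl⟩ := (C.mem b).1 hb
  rw [← C.add, ← C.add, add_comm]

theorem coord_exp {p : ℕ} [CharP F p] (C : Coord T P x χ) : ∀ a ∈ P, a ^ p = 1 := by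
  intro a ha
  obtain ⟨s, rfl⟩ := (C.mem a).1 ha
  have h1 : ∀ k : ℕ, x s ^ k = x ((k : F) * s) := by
    intro k
    induction k with
    | zero => rw [pow_zero, Nat.cast_zero, zero_mul, C.zero]
    | succ k ih => rw [pow_succ, ih, ← C.add, Nat.cast_succ, add_mul, one_mul]
  rw [h1, CharP.cast_eq_zero, zero_mul, C.zero]

theorem coord_card (C : Coord T P x χ) : Nat.card ↥P = Nat.card F := by
  symm
  refine Nat.card_congr (Equiv.ofBijective (fun a => (⟨x a, (C.mem _).2 ⟨a, rfl⟩⟩ : ↥P)) ⟨?_, ?_⟩)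
  · intro a b hab
    exact C.inj (congrArg Subtype.val hab)
  · rintro ⟨y, hy⟩
    obtain ⟨a, rfl⟩ := (C.mem y).1 hy
    exact ⟨a, rfl⟩

end Coord

/-! ### closed sets -/

section Closed

variable {I W : Type*} [Fintype I] [DecidableEq I] [Group W] {M : CoxeterMatrix I}
  {cs : CoxeterSystem M W} {A : I → I → ℤ} {h : IsCartan M A}

/-- a linear functional -/
def L (c x : I → ℤ) : ℤ := ∑ i, c i * x i

theorem L_add (c x y : I → ℤ) : L c (x + y) = L c x + L c y := by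
  unfold L
  rw [← Finset.sum_add_distrib]
  exact Finset.sum_congr rfl fun i _ => by rw [Pi.add_apply, mul_add]

theorem L_smul (c : I → ℤ) (a : ℤ) (x : I → ℤ) : L c (a • x) = a * L c x := by
  unfold L
  rw [Finset.mul_sum]
  exact Finset.sum_congr rfl fun i _ => by rw [Pi.smul_apply, smul_eq_mul]; ring

theorem closed_of {S : Set (I → ℤ)} {c c' c'' : I → ℤ}
    (hS : ∀ z, z ∈ S ↔ IsRoot cs h z ∧ 0 ≤ L c z ∧ 0 ≤ L c' z ∧ 0 < L c'' z) : Closed cs h S := by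
  intro x hx y hy z hz
  obtain ⟨-, h1, h2, h3⟩ := (hS x).1 hx
  obtain ⟨-, h1', h2', h3'⟩ := (hS y).1 hy
  obtain ⟨hz1, k, a, b, hk, ha, hb, e⟩ := hz
  refine (hS z).2 ⟨hz1, ?_, ?_, ?_⟩
  · have e1 := congrArg (L c) e
    rw [L_add, L_smul, L_smul, L_smul] at e1
    have e2 : 0 ≤ k * L c z := by rw [e1]; positivity
    exact nonneg_of_mul_nonneg_right e2 hk
  · have e1 := congrArg (L c') e
    rw [L_add, L_smul, L_smul, L_smul] at e1
    have e2 : 0 ≤ k * L c' z := by rw [e1]; positivity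
    exact nonneg_of_mul_nonneg_right e2 hk
  · have e1 := congrArg (L c'') e
    rw [L_add, L_smul, L_smul, L_smul] at e1
    have e2 : 0 < k * L c'' z := by rw [e1]; positivity
    exact pos_of_mul_pos_right e2 hk.le

end Closed

/-! ### `D₄` -/

section D4

open Cfsg.Agent.Nodes.RGDChev Cfsg.Agent.KFacts.RgdChevCoord Cfsg.Agent.CpAut.RgdD4

theorem hgt_le_D4 : ∀ r < chevD4.nroots, hgt (vec chevD4 4 r) ≤ 5 := by decide +kernel

/-- the roots of height at least `3` -/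
def sD4 : Finset (Fin 4 → ℤ) := ((Finset.range chevD4.nroots).image (vec chevD4 4)).filter fun z => 3 ≤ hgt z

theorem card_sD4 : sD4.card = 5 := by decide +kernel

theorem mem_sD4 {W : Type*} [Group W] (cs : CoxeterSystem coxeterD4 W) (z : Fin 4 → ℤ) :
    z ∈ sD4 ↔ IsRoot cs hp.isCartan z ∧ 3 ≤ hgt z := by
  rw [sD4, Finset.mem_filter, Finset.mem_image, isRoot_iff hp cs z]
  refine and_congr_left fun _ => ?_
  constructor
  · rintro ⟨r, hr, e⟩
    exact ⟨r, Finset.mem_range.1 hr, e⟩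
  · rintro ⟨r, hr, e⟩
    exact ⟨r, Finset.mem_range.2 hr, e⟩

theorem cone_D4 : ∀ r < chevD4.nroots, 3 ≤ hgt (vec chevD4 4 r) ↔
    (0 ≤ L ![-1, 3, -1, -1] (vec chevD4 4 r) ∧ 0 ≤ L ![2, -3, 2, 2] (vec chevD4 4 r) ∧
      0 < L ![1, 1, 1, 1] (vec chevD4 4 r)) := by decide +kernel

set_option backward.isDefEq.respectTransparency false in
theorem cartan_sym : ∀ σ : Equiv.Perm (Fin 4), (∀ i j, coxeterD4 (σ i) (σ j) = coxeterD4 i j) →
    ∀ i j, CoxeterGeomTypes.cartanOf chevD4 4 (σ i) (σ j) = CoxeterGeomTypes.cartanOf chevD4 4 i j := by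
  decide +kernel

/-- **`D₄(q)`, `q` a power of `3`, all automorphisms of order `3`.** -/
theorem bpS_D4_three {K : Type u} [Field K] [Fintype K] [CharP K 3] : BpTab.BpS 3 ↥(chevD4.group K) := by
  intro x hx
  obtain ⟨hs, hc⟩ := simple_D4 (F := K)
  have hW := finite_W hp (coxeterD4.toCoxeterSystem)
  have R := rgd (K := K) hp coxeterD4.toCoxeterSystem 3
  have hG1 : RGD.Sup (XX chevD4 4 K) {x | IsRoot coxeterD4.toCoxeterSystem hp.isCartan x} = ⊤ :=
    G1_eq_top hp coxeterD4.toCoxeterSystem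
  have C := coords (K := K) hp coxeterD4.toCoxeterSystem 3
  have hxp : x ^ 3 = 1 := by rw [← hx, pow_orderOf_eq_one]
  have hG := KFacts.RgdRigid.GG_eq_top (T := TT chevD4 K) hG1
  obtain ⟨g, hg⟩ := exists_fix_U R hG (k := 1) (x := x) (by rw [pow_one]; exact hxp)
  obtain ⟨u, hu, -, -, -, σ, D⟩ := exists_frame_pow R hG hg
  have hI : IntComm coxeterD4.toCoxeterSystem hp.isCartan (XX chevD4 4 K) :=
    intComm_restrict (KFacts.RgdFiltChev.intComm_GL hp _) (chevD4.group K) fun x _ => XV_le_group hp x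
  have hset : (sD4 : Set (Fin 4 → ℤ)) = S3 coxeterD4.toCoxeterSystem hp.isCartan := by
    ext z
    exact mem_sD4 coxeterD4.toCoxeterSystem z
  refine good_of_tw R hI ?_ (KFacts.RgdFiltChev.hasFilt_group hp K 3) hc
    (fun z hz => coord_comm (C.coord z hz.1)) (fun z hz => coord_exp (C.coord z hz.1)) hset ?_ ?_ hxp
    (cartan_sym σ (D.matrix R)) hu D
  · intro z hz
    obtain ⟨r, hr, rfl⟩ := (isRoot_iff hp _ z).1 hz
    exact hgt_le_D4 r hr
  · refine closed_of (c := ![-1, 3, -1, -1]) (c' := ![2, -3, 2, 2]) (c'' := ![1, 1, 1, 1]) fun z => ?_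
    rw [Finset.mem_coe, mem_sD4 coxeterD4.toCoxeterSystem]
    refine and_congr_right fun hz => ?_
    obtain ⟨r, hr, rfl⟩ := (isRoot_iff hp _ z).1 hz
    exact cone_D4 r hr
  · have h1 : ∏ x ∈ sD4, Nat.card ↥(XX chevD4 4 K x) = Nat.card K ^ 5 := by
      rw [Finset.prod_congr rfl fun z hz => coord_card (C.coord z ((mem_sD4 coxeterD4.toCoxeterSystem z).1 hz).1),
        Finset.prod_const, card_sD4]
    rw [h1]
    have h2 : 3 ≤ Nat.card K := by
      rw [Nat.card_eq_fintype_card]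
      exact CpAut.RgdUntw.three_le 3 Nat.prime_three (by norm_num) K
    calc 3 ^ 3 < 3 ^ 5 := by norm_num
      _ ≤ Nat.card K ^ 5 := Nat.pow_le_pow_left h2 5

end D4

/-! ### `³D₄` -/

section TwD4

open Cfsg.Agent.Nodes.RGDFold Cfsg.Agent.Nodes.RGDTwD4 Cfsg.Agent.KFacts.TwDFour.Out Cfsg.Agent.Nodes.RGDChev

theorem hgt_le_TwD4 : ∀ r < chevD4.nroots, hgt (V chevD4 J r) ≤ 5 := by decide +kernel

/-- the roots of height at least `3` -/
def sTw : Finset (Fin 2 → ℤ) := {![1, 2], ![1, 3], ![2, 3]}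

theorem mem_iff_Tw : ∀ r < chevD4.nroots, V chevD4 J r ∈ sTw ↔ 3 ≤ hgt (V chevD4 J r) := by decide +kernel

theorem root_Tw : ∀ z ∈ sTw, ∃ r < chevD4.nroots, V chevD4 J r = z := by decide +kernel

theorem cone_Tw : ∀ r < chevD4.nroots, V chevD4 J r ∈ sTw ↔
    (0 ≤ L ![3, -1] (V chevD4 J r) ∧ 0 ≤ L ![-3, 2] (V chevD4 J r) ∧
      0 < L ![1, 1] (V chevD4 J r)) := by decide +kernel

theorem isRoot_tw {W : Type*} [Group W] (cs : CoxeterSystem CoxeterMatrix.G₂ W) (z : Fin 2 → ℤ) :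
    IsRoot cs isCartan z ↔ ∃ r < chevD4.nroots, V chevD4 J r = z := by
  have hwp : ∀ i : Fin 2, ∀ r < chevD4.nroots, wp chevD4 (J i) r < chevD4.nroots := by decide +kernel
  exact foldData.isRoot_iff (cs := cs) (h := isCartan) hp.checked hwp z

theorem isRoot_of_mem {W : Type*} [Group W] (cs : CoxeterSystem CoxeterMatrix.G₂ W) {z : Fin 2 → ℤ} (hz : z ∈ sTw) :
    IsRoot cs isCartan z := (isRoot_tw cs z).2 (root_Tw z hz)

theorem refl_Tw : Nodes.RGDFold.refl A 1 (Nodes.RGDFold.refl A 0 (sr 1)) = ![1, 2] := by decide +kernel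

/-- **`³D₄(q)`, `q` a power of `3`, all automorphisms of order `3`.** -/
theorem bpS_twistedD4_three {K : Type u} [Field K] [Fintype K] [CharP K 3] {q : ℕ} (hq : IsPrimePow q)
    (hK : Fintype.card K = q ^ 3) : BpTab.BpS 3 ↥(twistedD4 K q) := by
  intro x hx
  obtain ⟨φ, hφ⟩ := D4Fixed.exists_frob hq hK
  obtain ⟨cs, hcs⟩ : ∃ cs : CoxeterSystem CoxeterMatrix.G₂ CoxeterMatrix.G₂.Group, cs = cs :=
    ⟨CoxeterMatrix.G₂.toCoxeterSystem, rfl⟩
  have hW : Finite CoxeterMatrix.G₂.Group := finiteW cs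
  have R := Cfsg.Agent.Nodes.RGDTwD4.rgd cs hK hφ 3
  have hG1 : RGD.Sup (X φ q) {x | IsRoot cs isCartan x} = ⊤ := G1_eq_top cs hK hφ
  obtain ⟨hs, hna⟩ := Cfsg.Agent.S1071.result hq hK
  have hc : ∃ a b : ↥(twistedD4 K q), a * b ≠ b * a := by
    by_contra hcon
    push Not at hcon
    exact hna ⟨⟨hcon⟩⟩
  have hxp : x ^ 3 = 1 := by rw [← hx, pow_orderOf_eq_one]
  have hG := KFacts.RgdRigid.GG_eq_top (T := Nodes.RGDTwD4.T K q) hG1
  obtain ⟨g, hg⟩ := exists_fix_U R hG (k := 1) (x := x) (by rw [pow_one]; exact hxp)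
  obtain ⟨u, hu, -, -, hpow, σ, D⟩ := exists_frame_pow R hG hg
  have hσ : σ = 1 := by
    have h1 : ∀ σ : Equiv.Perm (Fin 2), σ ^ 3 = 1 → σ = 1 := by decide
    refine h1 σ (perm_pow_eq_one R D (hpow 3 ?_))
    have h2 := pow_conj_eq_one (δ := (MulAut.conj g)⁻¹) hxp
    rwa [inv_inv] at h2
  subst hσ
  have hI : IntComm cs isCartan (X φ q) :=
    intComm_restrict (KFacts.RgdFiltTwAll.intComm_fold cs isCartan foldData
      (foldGrp hφ (D4Fixed.twisted_le_fix hK hφ)) 3) (twistedD4 K q)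
      fun z hz => R_le cs isCartan foldData (foldGrp hφ (D4Fixed.twisted_le_fix hK hφ)) 3 hz
  have hset : (sTw : Set (Fin 2 → ℤ)) = S3 cs isCartan := by
    ext z
    rw [Finset.mem_coe]
    constructor
    · intro hz
      obtain ⟨r, hr, rfl⟩ := root_Tw z hz
      exact ⟨isRoot_of_mem cs hz, (mem_iff_Tw r hr).1 hz⟩
    · rintro ⟨hz, h3⟩
      obtain ⟨r, hr, rfl⟩ := (isRoot_tw cs z).1 hz
      exact (mem_iff_Tw r hr).2 h3
  -- the root groups
  have hX : ∀ z, IsRoot cs isCartan z → ∃ (i : Fin 2) (k : ↥(twistedD4 K q)), X φ q z = cj k (X φ q (sr i)) := by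
    rintro _ ⟨w, i, rfl⟩
    obtain ⟨k, hk⟩ := exists_rp cs R.nsys w
    exact ⟨i, k, (R.conj_rp hk (isRoot_sr cs isCartan i)).symm⟩
  have hCh : ∀ i, CharP (KD φ i) 3 := fun i => inferInstance
  have hcard : ∀ i, Nat.card ↥(X φ q (sr i)) = Nat.card ↥(KD φ i) := fun i => coord_card (coordD hφ hK i)
  have hge : ∀ z, IsRoot cs isCartan z → 3 ≤ Nat.card ↥(X φ q z) := by
    intro z hz
    obtain ⟨i, k, e⟩ := hX z hz
    rw [e, Nodes.CardSup.card_cj, hcard]
    have := Fintype.ofFinite ↥(KD φ i)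
    rw [Nat.card_eq_fintype_card]
    exact CpAut.RgdUntw.three_le 3 Nat.prime_three (by norm_num) _
  have h12 : 27 ≤ Nat.card ↥(X φ q ![1, 2]) := by
    have h1 : Nat.card ↥(X φ q ![1, 2]) = Nat.card ↥(X φ q (sr 1)) := by
      have h2 := Nodes.CardSup.card_X_rep R (cs.simple 1 * cs.simple 0) (isRoot_sr cs isCartan 1)
      rwa [rep_mul_apply, rep_refl, rep_refl, refl_Tw] at h2
    have h2 : Nat.card ↥(KD φ 1) = q ^ 3 := by
      rw [F3_eq_top hK hφ, ← hK, ← Nat.card_eq_fintype_card]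
      exact Nat.card_congr (Subfield.topEquiv (K := K)).toEquiv
    rw [h1, hcard, h2]
    have h3 : 3 ≤ q := by
      by_contra hlt
      have h4 : q = 2 := by
        have := hq.one_lt
        omega
      subst h4
      obtain ⟨n, -, hn⟩ := FiniteField.card K 3
      have h5 : 3 ∣ 2 ^ 3 := by
        rw [← hK, hn]
        exact dvd_pow_self 3 n.ne_zero
      norm_num at h5
    calc 27 = 3 ^ 3 := by norm_num
      _ ≤ q ^ 3 := Nat.pow_le_pow_left h3 3
  refine good_of_tw R hI ?_ (KFacts.RgdFiltTwAll.hasFilt_D4 hq hK 3) hc ?_ ?_ hset ?_ ?_ hxp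
    (fun _ _ => rfl) hu D
  · intro z hz
    obtain ⟨r, hr, rfl⟩ := (isRoot_tw cs z).1 hz
    exact hgt_le_TwD4 r hr
  · intro z hz a ha b hb
    obtain ⟨i, k, e⟩ := hX z hz.1
    rw [e] at ha hb
    obtain ⟨a', ha', rfl⟩ := ha
    obtain ⟨b', hb', rfl⟩ := hb
    rw [← map_mul, ← map_mul, coord_comm (coordD hφ hK i) a' ha' b' hb']
  · intro z hz a ha
    obtain ⟨i, k, e⟩ := hX z hz.1
    rw [e] at ha
    obtain ⟨a', ha', rfl⟩ := ha
    rw [← map_pow, coord_exp (coordD hφ hK i) a' ha', map_one]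
  · refine closed_of (c := ![3, -1]) (c' := ![-3, 2]) (c'' := ![1, 1]) fun z => ?_
    rw [Finset.mem_coe]
    constructor
    · intro hz
      obtain ⟨r, hr, rfl⟩ := root_Tw z hz
      exact ⟨isRoot_of_mem cs hz, (cone_Tw r hr).1 hz⟩
    · rintro ⟨hz, h3⟩
      obtain ⟨r, hr, rfl⟩ := (isRoot_tw cs z).1 hz
      exact (cone_Tw r hr).2 h3
  · have h1 : ∏ x ∈ sTw, Nat.card ↥(X φ q x) =
        Nat.card ↥(X φ q ![1, 2]) * (Nat.card ↥(X φ q ![1, 3]) * Nat.card ↥(X φ q ![2, 3])) := by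
      rw [sTw, Finset.prod_insert (by decide), Finset.prod_insert (by decide), Finset.prod_singleton]
    rw [h1]
    have h2 := hge ![1, 3] (isRoot_of_mem cs (by decide))
    have h3 := hge ![2, 3] (isRoot_of_mem cs (by decide))
    calc 3 ^ 3 < 27 * (3 * 3) := by norm_num
      _ ≤ _ := Nat.mul_le_mul h12 (Nat.mul_le_mul h2 h3)

end TwD4

end Cfsg.Agent.BpLieP.Tri

end

-- merged: Cfsg.Agent.BpLieP.Main
section

/-!
# S1332: the groups of Lie type in odd characteristic `p`, all automorphisms of order `p`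

* `bpS_psu`;
* `bpS_of_lieFilt` : `BpS p X` for all simple groups `X` of Lie type of odd characteristic `p` except `²G₂(q)`.
-/

set_option autoImplicit false
set_option linter.unusedSectionVars false

namespace Cfsg.Agent.BpLieP.Main

open Cfsg Cfsg.Lie Cfsg.Agent.CpAut Cfsg.Agent.BpTab Cfsg.Agent.BpLieP.Base

section Psu

open Cfsg.Agent.CpAut.Psl Cfsg.Agent.CpAut.Fix Cfsg.Agent.CpAutU.Fld
open Cfsg.Agent.CpAutU.Fixed Cfsg.Agent.CpAutU.Desc Cfsg.Agent.CpAutU.Row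
open Cfsg.Agent.ClassicalGeometry.PSUAutCount (toAut)

/-- **`PSU_n(q)`** -/
theorem bpS_psu {F : Type} [Field F] [Fintype F] {p : ℕ} (hp : p.Prime) (hp2 : p ≠ 2) [CharP F p] {n q : ℕ}
    (hF : Fintype.card F = q ^ 2) (hn : 3 ≤ n) : BpS p (PSU n F q) := by
  have : Fact p.Prime := ⟨hp⟩
  have h32 : ¬ (n = 3 ∧ q = 2) := fun h => ne_two hp hp2 hF h.2
  have hsimple := S0283.result hF n hn h32
  have hfilt : KFacts.RgdFilt.HasFilt p (PSU n F q) :=
    KFacts.RgdLieCharP.hasFilt_of_lie (Or.inr (Or.inr (Or.inl ⟨F, inferInstance, inferInstance, inferInstance, n, q, hF,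
      hn, h32, ⟨MulEquiv.refl _⟩⟩)))
  refine bpS_of_filt hfilt not_comm_quot ?_
  intro x hx hno
  have hx' : x ^ p = 1 := by rw [← hx]; exact pow_orderOf_eq_one x
  obtain ⟨A, ρ, rfl⟩ := ClassicalGeometry.PSUAutMain.exists_toAut hF hn h32 x
  have hρ : ρ ≠ 1 := by
    rintro rfl
    exact hno (inner_of_lin hF hn hx')
  obtain ⟨hord, -⟩ := exists_conj hF hn hp hp2 hx' hρ
  obtain ⟨s, -, hs, hq⟩ := exists_s' hF hord (hp.odd_of_ne_two hp2)
  have hchar : CharP ↥(fixf ρ) p := PslRow.charP_fixf ρ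
  have hfin : Fintype ↥(fixf ρ) := Fintype.ofFinite _
  have hF₀ : Fintype.card ↥(fixf ρ) = s ^ 2 := by rw [← Nat.card_eq_fintype_card, hs]
  have hpow : ∀ a ∈ fixf ρ, a ^ q = a ^ s := fun a ha => pow_q (hp.odd_of_ne_two hp2) hs hq ha
  obtain ⟨e⟩ := exists_equiv hF hn hp hp2 hx' hρ
  have hS := sett (n := n) hF hn hF₀ hpow
  have h1 : Good p ↥(fixedSubgroup (toAut (1 : GU n F q) ρ)) :=
    good_sett_of_simple hS (S0283.result hF₀ n hn fun h => ne_two hp hp2 hF₀ h.2)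
  exact h1.congr e.symm

end Psu

/-- **`PΩ₈⁺(q)`** -/
theorem bpS_plus_four {K : Type} [Field K] [Fintype K] {p : ℕ} (hp : p.Prime) (hp2 : p ≠ 2) [CharP K p] :
    BpS p (POmega K (quadFormPlus 4 K)) := by
  have : Fact p.Prime := ⟨hp⟩
  obtain ⟨f⟩ := Cfsg.Agent.S1082.result (F := K)
  have hfin : Finite (POmega K (quadFormPlus 4 K)) := Finite.of_equiv _ f.toEquiv
  by_cases hp3 : p = 3
  · subst hp3
    exact bpS_congr f Tri.bpS_D4_three
  · exact bpS_congr f (Untw.bpS_D4 p hp2 fun h => absurd h hp3)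

/-- **`²E₆(q)` and `³D₄(q)`** -/
theorem bpS_of_twisted {p : ℕ} (hp : p.Prime) (hp2 : p ≠ 2) {X : Type*} [Group X] [Finite X]
    (h : IsTwistedE6D4Char p X) : BpS p X := by
  have : Fact p.Prime := ⟨hp⟩
  obtain ⟨K, _, _, _, q, hq, ⟨hK, ⟨e⟩⟩ | ⟨hK, ⟨e⟩⟩⟩ := h
  · exact bpS_congr e.symm (Tw.bpS_twistedE6 p hp2 hq hK)
  · by_cases hp3 : p = 3
    · subst hp3
      exact bpS_congr e.symm (Tri.bpS_twistedD4_three hq hK)
    · exact bpS_congr e.symm (TwD4.bpS_twistedD4 p hp3 hq hK)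

/-- **The groups of Lie type in odd characteristic `p`**, except `²G₂(q)`. -/
theorem bpS_of_lieFilt {p : ℕ} (hp : p.Prime) (hp2 : p ≠ 2) {X : Type*} [Group X] [Finite X]
    (h : KFacts.RgdLieCharP.IsLieFilt p X) : BpS p X := by
  have : Fact p.Prime := ⟨hp⟩
  rcases h with h | h | h | h | h | h | h | h
  · obtain ⟨F, _, _, _, n, hn, h4, ⟨e⟩⟩ := h
    exact bpS_congr e.symm (Psl.bpS_psl hp hp2 hn h4)
  · obtain ⟨F, _, _, _, m, hm, -, ⟨e⟩⟩ := h
    exact bpS_congr e.symm (Psl.bpS_psp hp hp2 hm)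
  · obtain ⟨F, _, _, _, n, q, hF, hn, -, ⟨e⟩⟩ := h
    exact bpS_congr e.symm (bpS_psu hp hp2 hF hn)
  · obtain ⟨F, _, _, _, m, hm, -, ⟨e⟩⟩ := h
    exact bpS_congr e.symm (Orth.bpS_odd hp hp2 hm)
  · obtain ⟨F, _, _, _, m, hm, ⟨e⟩⟩ := h
    rcases hm.eq_or_lt with h4 | h4
    · subst h4
      exact bpS_congr e.symm (bpS_plus_four hp hp2)
    · exact bpS_congr e.symm (Orth.bpS_plus hp hp2 h4)
  · obtain ⟨F, _, _, _, m, a, b, hm, hab, ⟨e⟩⟩ := h
    exact bpS_congr e.symm (Orth.bpS_minus hp hp2 hm a b hab)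
  · exact Untw.bpS_of_exceptional p hp2 h
  · exact bpS_of_twisted hp hp2 h

end Cfsg.Agent.BpLieP.Main

end
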